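import Cfsg.Agent.Lib.GW.Conseq.CentralFour.Base
import Cfsg.Agent.Lib.GW.Reduction
import Cfsg.Agent.Lib.AfterFT.PairClosed.Main
import Cfsg.Agent.Lib.Blocks.AbelianFreeTwo
import Cfsg.Agent.Lib.InvariantComplement

/-!
No pair of strongly closed subgroups in a simple group; simple groups with an abelian Sylow 2-subgroup having an
invariant subgroup of index four.
-/

set_option autoImplicit false
set_option linter.unusedSectionVars false

namespace CfsgLib.CentralFour

open Cfsg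
open scoped IsMulCommutative

universe u

variable {X : Type u} [Group X] [Finite X] [IsSimpleGroup X]

theorem oddCore_eq_bot (h2 : Even (Nat.card X)) : oddCore X = ⊥ := by
  refine (IsSimpleGroup.eq_bot_or_eq_top_of_normal _ inferInstance).resolve_right fun e => ?_
  have h := CfsgLib.odd_card_oddCore (G := X)
  rw [e, Subgroup.card_top] at h
  exact Nat.not_even_iff_odd.mpr h h2

theorem normalClosure_eq_top {S : Subgroup X} (hS : S ≠ ⊥) : Subgroup.normalClosure (S : Set X) = ⊤ :=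
  (IsSimpleGroup.eq_bot_or_eq_top_of_normal _ inferInstance).resolve_left fun e =>
    hS (le_bot_iff.mp (e ▸ Subgroup.subset_normalClosure))

/-- In a non-abelian simple group there are no two nontrivial commuting disjoint strongly closed subgroups. -/
theorem pair_false (hX : ¬ IsMulCommutative X) (heven : Even (Nat.card X)) (P : Sylow 2 X) {S₁ S₂ : Subgroup X}
    (h₁ : IsStronglyClosed S₁ (P : Subgroup X)) (h₂ : IsStronglyClosed S₂ (P : Subgroup X))
    (hc : ∀ a ∈ S₁, ∀ b ∈ S₂, a * b = b * a) (hd : S₁ ⊓ S₂ = ⊥) (hne₁ : S₁ ≠ ⊥) (hne₂ : S₂ ≠ ⊥) : False := by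
  have h := CfsgLib.AfterFT.PairClosed.commutator_normalClosure_le
    (fun H _ _ hH => CfsgLib.OddOrder.feitThompson hH) P S₁ S₂ h₁ h₂ hc hd
  rw [normalClosure_eq_top hne₁, normalClosure_eq_top hne₂, oddCore_eq_bot heven, le_bot_iff,
    Subgroup.commutator_eq_bot_iff_le_centralizer] at h
  exact hX ⟨⟨fun a b => (Subgroup.mem_centralizer_iff.mp (h (Subgroup.mem_top a)) b (Subgroup.mem_top b)).symm⟩⟩

/-- A simple group whose abelian Sylow 2-subgroup has a normaliser-invariant subgroup of index four with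
elementary quotient. -/
theorem card_eq_four (hX : ¬ IsMulCommutative X) (P : Sylow 2 X) [IsMulCommutative (P : Subgroup X)]
    {W : Subgroup X} (hW : W ≤ (P : Subgroup X)) (hcard : Nat.card P = 4 * Nat.card W)
    (hsq : ∀ x ∈ (P : Subgroup X), x * x ∈ W)
    (hinv : ∀ n ∈ Subgroup.normalizer ((P : Subgroup X) : Set X), ∀ x ∈ W, n * x * n⁻¹ ∈ W) :
    Nat.card P = 4 ∧ ∀ x ∈ (P : Subgroup X), x * x = 1 := by
  classical
  haveI : Fact (Nat.Prime 2) := ⟨Nat.prime_two⟩
  set N := Subgroup.normalizer ((P : Subgroup X) : Set X)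
  have heven : Even (Nat.card X) := by
    rw [even_iff_two_dvd]
    refine Dvd.dvd.trans ?_ (P : Subgroup X).card_subgroup_dvd_card
    rw [hcard]; exact dvd_mul_of_dvd_left (by norm_num) _
  have hconjP : ∀ {n x : X}, n ∈ N → x ∈ (P : Subgroup X) → n * x * n⁻¹ ∈ (P : Subgroup X) := fun hn hx =>
    (Subgroup.mem_normalizer_iff.mp hn _).mp hx
  -- invariant subgroups are strongly closed
  have hclosed : ∀ B : Subgroup X, B ≤ (P : Subgroup X) → (∀ n ∈ N, ∀ x ∈ B, n * x * n⁻¹ ∈ B) →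
      IsStronglyClosed B (P : Subgroup X) := fun B hB hBn => ⟨hB, fun x hx g hg => by
    obtain ⟨n, hn, e⟩ := P.conj_eq_normalizer_conj_of_mem x g⁻¹ (hB hx) (by simp only [inv_inv]; exact hg)
    have e' : g * x * g⁻¹ = n⁻¹ * x * n := by simpa using e
    have := hBn n⁻¹ (inv_mem hn) x hx
    rw [inv_inv] at this
    exact e' ▸ this⟩
  set Q : Subgroup X := (P : Subgroup X)
  have hcomm : ∀ a ∈ Q, ∀ b ∈ Q, a * b = b * a := fun a ha b hb =>
    Subgroup.mul_comm_of_mem_isMulCommutative Q ha hb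
  let Ω : Subgroup X :=
    { carrier := {x | x ∈ Q ∧ x * x = 1}
      one_mem' := ⟨Q.one_mem, one_mul 1⟩
      mul_mem' := fun {a b} ha hb => ⟨Q.mul_mem ha.1 hb.1, by
        rw [mul_assoc, ← mul_assoc b a b, hcomm b hb.1 a ha.1, ← mul_assoc, ← mul_assoc, ha.2, one_mul, hb.2]⟩
      inv_mem' := fun {a} ha => ⟨Q.inv_mem ha.1, by rw [← mul_inv_rev, ha.2, inv_one]⟩ }
  have hΩinv : ∀ n ∈ N, ∀ x ∈ Ω, n * x * n⁻¹ ∈ Ω := fun n hn x hx => ⟨hconjP hn hx.1, by
    rw [conj_mul, hx.2, mul_one, mul_inv_cancel]⟩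
  -- irreducibility
  have hirr : ∀ B : Subgroup X, B ≤ Ω → (∀ n ∈ N, ∀ x ∈ B, n * x * n⁻¹ ∈ B) → B ≠ ⊥ → B = Ω := by
    intro B hBΩ hBn hB
    haveI : IsMulCommutative Ω := ⟨⟨fun a b => Subtype.ext (hcomm _ a.2.1 _ b.2.1)⟩⟩
    have hΩle : N ≤ Subgroup.normalizer (Ω : Set X) := fun n hn => Subgroup.mem_normalizer_iff.mpr fun x =>
      ⟨fun hx => hΩinv n hn x hx, fun hx => by simpa [mul_assoc] using hΩinv n⁻¹ (inv_mem hn) _ hx⟩
    let φ : N →* MulAut Ω := (Subgroup.normalizerMonoidHom Ω).comp (Subgroup.inclusion hΩle)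
    have hφ : ∀ (n : N) (x : Ω), (φ n x : X) = (n : X) * x * (n : X)⁻¹ := fun n x => rfl
    have hPN : Q ≤ N := Subgroup.le_normalizer
    have hker : Q.subgroupOf N ≤ φ.ker := fun n hn => MonoidHom.mem_ker.mpr (MulEquiv.ext fun x => Subtype.ext (by
      rw [hφ, hcomm _ (Subgroup.mem_subgroupOf.mp hn) _ x.2.1, mul_inv_cancel_right]; rfl))
    have hoddA : ¬ 2 ∣ Nat.card φ.range := by
      rw [← Subgroup.index_ker]
      exact fun h => (P.subtype hPN).not_dvd_index (h.trans (Subgroup.index_dvd_of_le hker))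
    obtain ⟨k, hk⟩ := IsPGroup.iff_card.mp (P.2.to_le (fun x hx => hx.1 : Ω ≤ Q))
    have hcop : (Nat.card φ.range).Coprime (Nat.card Ω) := by
      rw [hk]
      exact Nat.Coprime.pow_right _ ((Nat.Prime.coprime_iff_not_dvd Nat.prime_two).mpr hoddA).symm
    obtain ⟨K, hK1, hK2⟩ := CfsgLib.exists_complement_of_exponent (p := 2)
      (fun x : Ω => Subtype.ext (by rw [SubmonoidClass.coe_pow, pow_two]; exact x.2.2)) (B.subgroupOf Ω)
    obtain ⟨W', hW'n, hW'1, hW'2⟩ := CfsgLib.exists_invariant_complement φ.range.subtype hcop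
      (U := B.subgroupOf Ω) (by
        rintro ⟨_, n, rfl⟩ x hx
        exact Subgroup.mem_subgroupOf.mpr ((hφ n x).symm ▸ hBn n n.2 x (Subgroup.mem_subgroupOf.mp hx))) hK1 hK2
    by_cases hW' : W' = ⊥
    · rw [hW', sup_bot_eq, Subgroup.subgroupOf_eq_top] at hW'2
      exact le_antisymm hBΩ hW'2
    · exfalso
      refine pair_false hX heven P (hclosed B (hBΩ.trans fun x hx => hx.1) hBn)
        (hclosed (W'.map Ω.subtype) ((Subgroup.map_subtype_le W').trans fun x hx => hx.1) ?_)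
        (fun a ha b hb => hcomm a (hBΩ ha).1 b (Subgroup.map_subtype_le W' hb).1) ?_ hB
        (fun e => hW' ((Subgroup.map_eq_bot_iff_of_injective _ Ω.subtype_injective).mp e))
      · rintro n hn _ ⟨x, hx, rfl⟩
        exact ⟨φ ⟨n, hn⟩ x, hW'n ⟨φ ⟨n, hn⟩, _, rfl⟩ x hx, hφ _ _⟩
      · rw [Subgroup.eq_bot_iff_forall]
        rintro _ ⟨hxB, x, hx, rfl⟩
        have : x ∈ B.subgroupOf Ω ⊓ W' := ⟨hxB, hx⟩
        rw [hW'1, Subgroup.mem_bot] at this
        rw [this]; rfl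
  have hQ2 : ∀ x ∈ Q, ∃ k : ℕ, x ^ 2 ^ k = 1 := fun x hx => by
    obtain ⟨k, hk⟩ := P.2 ⟨x, hx⟩
    exact ⟨k, congrArg Subtype.val hk⟩
  by_cases hexp : ∀ x ∈ Q, x * x = 1
  · -- elementary abelian
    refine ⟨?_, hexp⟩
    have hWΩ : W ≤ Ω := fun x hx => ⟨hW hx, hexp x (hW hx)⟩
    by_cases hWb : W = ⊥
    · rw [hcard, hWb, Subgroup.card_bot]
    · exfalso
      have e := hirr W hWΩ hinv hWb
      have : Nat.card Q ≤ Nat.card W := Subgroup.card_le_of_le fun x hx => e ▸ (⟨hx, hexp x hx⟩ : x ∈ Ω)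
      have := Nat.card_pos (α := W)
      omega
  · exfalso
    push Not at hexp
    obtain ⟨y, hy, hy2⟩ := hexp
    -- the largest power with nontrivial image
    obtain ⟨e, hex, hemax⟩ : ∃ e : ℕ, (∃ x ∈ Q, x ^ 2 ^ e ≠ 1) ∧ ∀ x ∈ Q, x ^ 2 ^ (e + 1) = 1 := by
      obtain ⟨K, hK⟩ : ∃ K : ℕ, ∀ x ∈ Q, x ^ 2 ^ K = 1 := by
        obtain ⟨K, hK⟩ := IsPGroup.iff_card.mp P.2
        exact ⟨K, fun x hx => by
          have := congrArg Subtype.val (pow_card_eq_one' (x := (⟨x, hx⟩ : Q)))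
          rwa [hK] at this⟩
      set m := Nat.find (⟨K, hK⟩ : ∃ K : ℕ, ∀ x ∈ Q, x ^ 2 ^ K = 1)
      have hm := Nat.find_spec (⟨K, hK⟩ : ∃ K : ℕ, ∀ x ∈ Q, x ^ 2 ^ K = 1)
      have hm0 : m ≠ 0 := fun e => by
        have h0 := hm y hy
        rw [show Nat.find _ = m from rfl, e, pow_zero, pow_one] at h0
        rw [h0, one_mul] at hy2
        exact hy2 rfl
      refine ⟨m - 1, ?_, by rw [Nat.sub_add_cancel (Nat.one_le_iff_ne_zero.mpr hm0)]; exact hm⟩
      by_contra hno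
      push Not at hno
      exact Nat.find_min (⟨K, hK⟩ : ∃ K : ℕ, ∀ x ∈ Q, x ^ 2 ^ K = 1) (show m - 1 < m by omega) hno
    have hpow : ∀ a ∈ Q, ∀ b ∈ Q, ∀ k : ℕ, (a * b) ^ k = a ^ k * b ^ k := fun a ha b hb k =>
      (show Commute a b from hcomm a ha b hb).mul_pow k
    let f : Q →* X :=
      { toFun := fun x => (x : X) ^ 2 ^ e
        map_one' := one_pow _
        map_mul' := fun a b => hpow a a.2 b b.2 _ }
    let s : Q →* X :=
      { toFun := fun x => (x : X) * x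
        map_one' := one_mul 1
        map_mul' := fun a b => by
          show (a : X) * b * (a * b) = a * a * (b * b)
          rw [← pow_two, ← pow_two, ← pow_two, hpow a a.2 b b.2] }
    have hfΩ : ∀ x : Q, f x ∈ Ω := fun x => ⟨Q.pow_mem x.2 _, by
      show (x : X) ^ 2 ^ e * (x : X) ^ 2 ^ e = 1
      rw [← pow_add, ← two_mul, ← pow_succ']; exact hemax x x.2⟩
    have himg : ∀ T : Subgroup Q, (∀ n ∈ N, ∀ x ∈ T, ∃ h : n * (x : X) * n⁻¹ ∈ Q, (⟨_, h⟩ : Q) ∈ T) →
        T.map f ≠ ⊥ → T.map f = Ω := fun T hT hne => by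
      refine hirr _ (fun _ ⟨x, _, e⟩ => e ▸ hfΩ x) ?_ hne
      rintro n hn _ ⟨x, hx, rfl⟩
      obtain ⟨h, hh⟩ := hT n hn x hx
      exact ⟨_, hh, conj_pow (i := 2 ^ e) ..⟩
    have hftop : f.range = Ω := by
      rw [MonoidHom.range_eq_map]
      refine himg ⊤ (fun n hn x _ => ⟨hconjP hn x.2, Subgroup.mem_top _⟩) ?_
      obtain ⟨x, hx, hx1⟩ := hex
      intro e'
      have h1 : x ^ 2 ^ e ∈ (⊤ : Subgroup Q).map f := ⟨⟨x, hx⟩, Subgroup.mem_top _, rfl⟩
      rw [e'] at h1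
      exact hx1 (Subgroup.mem_bot.mp h1)
    have hsker : s.ker = Ω.subgroupOf Q := by
      ext x
      exact ⟨fun h => ⟨x.2, h⟩, fun h => h.2⟩
    have hcΩ : Nat.card (Ω.subgroupOf Q) = Nat.card Ω :=
      Nat.card_congr (Subgroup.subgroupOfEquivOfLe (fun x hx => hx.1 : Ω ≤ Q)).toEquiv
    have hR : s.range ≤ W := by rintro _ ⟨x, rfl⟩; exact hsq x x.2
    have hcR : Nat.card s.range * Nat.card Ω = Nat.card Q := by
      rw [← hcΩ, ← hsker, ← Subgroup.index_ker, Subgroup.index_mul_card]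
    have hfker : Nat.card f.ker * Nat.card Ω = Nat.card Q := by
      rw [← hftop, ← Subgroup.index_ker, Subgroup.card_mul_index]
    have hRker : s.range.subgroupOf Q = f.ker := by
      refine Subgroup.eq_of_le_of_card_ge ?_ (le_of_eq ?_)
      · rintro x ⟨r, hr⟩
        have : (x : X) = r * r := hr.symm
        show (x : X) ^ 2 ^ e = 1
        rw [this, ← pow_two, ← pow_mul, ← pow_succ']
        exact hemax r r.2
      · rw [Nat.card_congr (Subgroup.subgroupOfEquivOfLe (hR.trans hW)).toEquiv]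
        exact Nat.eq_of_mul_eq_mul_right Nat.card_pos (hfker.trans hcR.symm)
    have hWf : W.subgroupOf Q ≤ f.ker := by
      by_contra h
      have hne : (W.subgroupOf Q).map f ≠ ⊥ := fun e' => h ((Subgroup.map_eq_bot_iff _).mp e')
      have heq := himg (W.subgroupOf Q)
        (fun n hn x hx => ⟨hconjP hn x.2, hinv n hn x (Subgroup.mem_subgroupOf.mp hx)⟩) hne
      have htop : Q ≤ W := fun x hx => by
        obtain ⟨w, hw, e'⟩ := (heq.symm ▸ hfΩ ⟨x, hx⟩ : f ⟨x, hx⟩ ∈ (W.subgroupOf Q).map f)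
        have hk : w⁻¹ * (⟨x, hx⟩ : Q) ∈ f.ker := by rw [MonoidHom.mem_ker, map_mul, map_inv, e', inv_mul_cancel]
        rw [← hRker, Subgroup.mem_subgroupOf] at hk
        have := W.mul_mem (Subgroup.mem_subgroupOf.mp hw) (hR hk)
        rwa [show (w : X) * ((w⁻¹ * ⟨x, hx⟩ : Q) : X) = x by simp] at this
      have := Subgroup.card_le_of_le htop
      have := Nat.card_pos (α := W)
      omega
    have hWR : W = s.range := le_antisymm (fun x hx => by
      have := hRker.ge (hWf (show (⟨x, hW hx⟩ : Q) ∈ W.subgroupOf Q from hx))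
      exact Subgroup.mem_subgroupOf.mp this) hR
    have hΩ4 : Nat.card Ω = 4 := by
      rw [← hWR] at hcR
      have := Nat.card_pos (α := W)
      exact Nat.eq_of_mul_eq_mul_left this (hcR.trans (hcard.trans (mul_comm _ _)))
    have h3 : CfsgLib.Blocks.AbelianFree.ThreeInv P := by
      refine ⟨hcomm, ?_⟩
      let f' : {x : Q // x * x = 1 ∧ x ≠ 1} → {x : Ω // x ≠ 1} := fun x =>
        ⟨⟨x.1, x.1.2, congrArg Subtype.val x.2.1⟩, fun e => x.2.2 (Subtype.ext (congrArg (fun z : Ω => (z : X)) e))⟩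
      haveI := Fintype.ofFinite Ω
      rw [Nat.card_eq_of_bijective f' ⟨fun a b h => Subtype.ext (Subtype.ext
          (congrArg (fun z : {x : Ω // x ≠ 1} => ((z : Ω) : X)) h)),
        fun z => ⟨⟨⟨z.1, z.1.2.1⟩, Subtype.ext z.1.2.2, fun e => z.2 (Subtype.ext (congrArg (fun v : Q => (v : X)) e))⟩,
          rfl⟩⟩, Nat.card_eq_fintype_card, Fintype.card_subtype_compl, Fintype.card_subtype_eq,
        ← Nat.card_eq_fintype_card, hΩ4]
    have hbig : 4 < Nat.card P := by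
      by_contra h
      have h1 : Nat.card W = 1 := by
        have := Nat.card_pos (α := W)
        have : Nat.card P = Nat.card Q := rfl
        omega
      exact hy2 (Subgroup.mem_bot.mp (Subgroup.eq_bot_of_card_eq _ h1 ▸ hsq y hy))
    obtain ⟨hn, -, -⟩ := CfsgLib.Blocks.AbelianFree.brauer_rank_two h3 hbig
      ⟨⟨y, hy⟩, fun e => hy2 (congrArg Subtype.val e)⟩ fun M hM hMo =>
        (IsSimpleGroup.eq_bot_or_eq_top_of_normal M hM).resolve_right fun e => by
          rw [e, Subgroup.card_top] at hMo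
          exact Nat.not_even_iff_odd.mpr hMo heven
    rcases IsSimpleGroup.eq_bot_or_eq_top_of_normal _ hn with h | h
    · have : Nat.card P = 1 := by rw [show Nat.card P = Nat.card (P : Subgroup X) from rfl, h, Subgroup.card_bot]
      omega
    · refine hX ⟨⟨fun a b => hcomm a ?_ b ?_⟩⟩ <;> exact h.ge (Subgroup.mem_top _)

end CfsgLib.CentralFour
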