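import Mathlib

/-!
Non-abelian groups with a centre of index four: squares are central and commutators take two values.
-/

set_option autoImplicit false
set_option linter.unusedSectionVars false

namespace CfsgLib.CentralFour

universe u

variable {G : Type u} [Group G]

/-- `P` is non-abelian with centre `Z` of index `4` and commutators in `{1, z}`. -/
structure Quad (P Z : Subgroup G) (z : G) : Prop where
  le : Z ≤ P
  central : ∀ a ∈ P, ∀ c ∈ Z, a * c = c * a
  mem_Z : ∀ a ∈ P, (∀ b ∈ P, a * b = b * a) → a ∈ Z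
  card : Nat.card P = 4 * Nat.card Z
  z_mem : z ∈ Z
  z_ne : z ≠ 1
  z_sq : z * z = 1
  sq_mem : ∀ a ∈ P, a * a ∈ Z
  comm : ∀ a ∈ P, ∀ b ∈ P, a * b * a⁻¹ = b ∨ a * b * a⁻¹ = z * b
  four : ∀ a ∈ P, ∀ b ∈ P, a ∉ Z → b ∉ Z → a⁻¹ * b ∉ Z → ∀ v ∈ P,
    v ∈ Z ∨ a⁻¹ * v ∈ Z ∨ b⁻¹ * v ∈ Z ∨ (a * b)⁻¹ * v ∈ Z

theorem exists_quad [Finite G] (P : Subgroup G) (hna : ¬ IsMulCommutative P)
    (hidx : (Subgroup.center P).index = 4) :
    ∃ z : G, Quad P ((Subgroup.center P).map P.subtype) z := by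
  classical
  set C := Subgroup.center P with hC
  haveI : Fintype (P ⧸ C) := Fintype.ofFinite _
  have hq : Nat.card (P ⧸ C) = 4 := hidx
  have hqc : Fintype.card (P ⧸ C) = 4 := by rw [← Nat.card_eq_fintype_card]; exact hq
  have hnc : ¬ IsCyclic (P ⧸ C) := fun h => hna ⟨⟨fun a b => by
    haveI := h
    exact commutative_of_cyclic_center_quotient (QuotientGroup.mk' C) (QuotientGroup.ker_mk' C).le a b⟩⟩
  have hsq : ∀ a : P, a * a ∈ C := by
    intro a
    rw [← QuotientGroup.eq_one_iff (N := C), QuotientGroup.mk_mul, ← pow_two]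
    refine orderOf_dvd_iff_pow_eq_one.mp ?_
    have h4 : orderOf (a : P ⧸ C) ∣ 4 := hq ▸ orderOf_dvd_natCard _
    have hne : orderOf (a : P ⧸ C) ≠ 4 := fun e => hnc (isCyclic_of_orderOf_eq_card _ (e.trans hq.symm))
    have hle := Nat.le_of_dvd (by norm_num) h4
    generalize orderOf (a : P ⧸ C) = n at h4 hne hle
    interval_cases n
    all_goals first | omega | norm_num at h4 | norm_num
  have hfour : ∀ a b : P, a ∉ C → b ∉ C → a⁻¹ * b ∉ C → ∀ v : P,
      v ∈ C ∨ a⁻¹ * v ∈ C ∨ b⁻¹ * v ∈ C ∨ (a * b)⁻¹ * v ∈ C := by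
    intro a b ha hb hab v
    simp only [← QuotientGroup.eq_one_iff (N := C), QuotientGroup.mk_mul, QuotientGroup.mk_inv,
      inv_mul_eq_one] at ha hb hab ⊢
    have habn : ((a : P ⧸ C)) * b ≠ 1 := fun e => hab (by
      have ha2 : (a : P ⧸ C) * a = 1 := (QuotientGroup.eq_one_iff _).mpr (hsq a)
      exact mul_left_cancel (ha2.trans e.symm))
    have hcd : ({1, (a : P ⧸ C), (b : P ⧸ C), (a : P ⧸ C) * b} : Finset (P ⧸ C)).card = 4 := by
      rw [Finset.card_insert_of_notMem, Finset.card_insert_of_notMem, Finset.card_pair]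
      · exact fun e => ha (mul_eq_right.mp e.symm)
      · simp only [Finset.mem_insert, Finset.mem_singleton, not_or]
        exact ⟨hab, fun e => hb (mul_eq_left.mp e.symm)⟩
      · simp only [Finset.mem_insert, Finset.mem_singleton, not_or]
        exact ⟨fun e => ha e.symm, fun e => hb e.symm, fun e => habn e.symm⟩
    have hv := (Finset.eq_univ_of_card _ (hcd.trans hqc.symm)).ge (Finset.mem_univ (v : P ⧸ C))
    simp only [Finset.mem_insert, Finset.mem_singleton] at hv
    rcases hv with e | e | e | e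
    exacts [Or.inl e, Or.inr (Or.inl e.symm), Or.inr (Or.inr (Or.inl e.symm)), Or.inr (Or.inr (Or.inr e.symm))]
  have hcc : ∀ {c : P}, c ∈ C → ∀ g : P, g * c = c * g := fun hc g => Subgroup.mem_center_iff.mp hc g
  -- two non-commuting elements
  obtain ⟨a, b, hab⟩ : ∃ a b : P, a * b ≠ b * a := by
    by_contra h
    push Not at h
    exact hna ⟨⟨h⟩⟩
  let f : P → P → P := fun u v => u * v * u⁻¹ * v⁻¹
  have hf1 : ∀ u v, f u v = 1 ↔ u * v = v * u := fun u v => by
    simp only [f]; rw [mul_inv_eq_one, mul_inv_eq_iff_eq_mul]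
  have hfC : ∀ u v, f u v ∈ C := fun u v => by
    rw [← QuotientGroup.eq_one_iff (N := C)]
    have h2 : ∀ x : P ⧸ C, x * x = 1 := fun x => by
      obtain ⟨w, rfl⟩ := QuotientGroup.mk_surjective x
      exact (QuotientGroup.eq_one_iff _).mpr (hsq w)
    have hinv : ∀ x : P ⧸ C, x⁻¹ = x := fun x => inv_eq_of_mul_eq_one_left (h2 x)
    simp only [f, QuotientGroup.mk_mul, QuotientGroup.mk_inv, hinv]
    rw [mul_assoc ((u : P ⧸ C) * v)]
    exact h2 _
  have hright : ∀ u v w, f u (v * w) = f u v * f u w := fun u v w => by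
    have e : f u (v * w) = f u v * (v * f u w * v⁻¹) := by simp only [f]; group
    rw [e, hcc (hfC u w) v, mul_inv_cancel_right]
  have hleft : ∀ u v w, f (u * v) w = f u w * f v w := fun u v w => by
    have e : f (u * v) w = (u * f v w * u⁻¹) * f u w := by simp only [f]; group
    rw [e, hcc (hfC v w) u, mul_inv_cancel_right]
    exact hcc (hfC u w) _
  have hanti : ∀ u v, f v u = f u v := fun u v => by
    have h1 : f u v * f u v = 1 := by rw [← hright, hf1]; exact hcc (hsq v) u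
    rw [show f v u = (f u v)⁻¹ by simp only [f]; group]
    exact inv_eq_of_mul_eq_one_left h1
  set w := f a b with hw
  have hwne : w ≠ 1 := fun e => hab ((hf1 a b).mp e)
  have hww : w * w = 1 := by rw [hw, ← hright, hf1]; exact hcc (hsq b) a
  have haC : a ∉ C := fun h => hab ((hcc h b).symm)
  have hbC : b ∉ C := fun h => hab (hcc h a)
  have habC : a⁻¹ * b ∉ C := fun h => hab (by
    have e : b = a * (a⁻¹ * b) := (mul_inv_cancel_left a b).symm
    rw [e, mul_assoc a (a⁻¹ * b) a, ← hcc h a, ← mul_assoc])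
  have hfc : ∀ u {c}, c ∈ C → f u c = 1 := fun u c hc => (hf1 u c).mpr (hcc hc u)
  have hfr : ∀ u v r, r⁻¹ * v ∈ C → f u v = f u r := fun u v r h => by
    conv_lhs => rw [← mul_inv_cancel_left r v]
    rw [hright, hfc u h, mul_one]
  have hab' : ∀ v, (f a v = 1 ∨ f a v = w) ∧ (f b v = 1 ∨ f b v = w) := fun v => by
    have haa : f a a = 1 := (hf1 a a).mpr rfl
    have hbb : f b b = 1 := (hf1 b b).mpr rfl
    rcases hfour a b haC hbC habC v with h | h | h | h
    · exact ⟨Or.inl (hfc a h), Or.inl (hfc b h)⟩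
    · rw [hfr a v a h, hfr b v a h, haa, hanti a b]; exact ⟨Or.inl rfl, Or.inr hw.symm⟩
    · rw [hfr a v b h, hfr b v b h, hbb]; exact ⟨Or.inr hw.symm, Or.inl rfl⟩
    · rw [hfr a v _ h, hfr b v _ h, hright, hright, haa, hbb, one_mul, mul_one, hanti a b]
      exact ⟨Or.inr hw.symm, Or.inr hw.symm⟩
  have hall : ∀ u v, f u v = 1 ∨ f u v = w := fun u v => by
    have hl : ∀ r, r⁻¹ * u ∈ C → f u v = f r v := fun r h =>
      (hanti u v).symm.trans ((hfr v u r h).trans (hanti r v))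
    rcases hfour a b haC hbC habC u with h | h | h | h
    · exact Or.inl ((hf1 u v).mpr (hcc h v).symm)
    · rw [hl a h]; exact (hab' v).1
    · rw [hl b h]; exact (hab' v).2
    · rw [hl _ h, hleft]
      rcases (hab' v).1 with e | e <;> rcases (hab' v).2 with e' | e' <;> rw [e, e'] <;> simp [hww]
  have hmem : ∀ x : P, (x : G) ∈ C.map P.subtype ↔ x ∈ C := fun x =>
    Subgroup.mem_map_iff_mem P.subtype_injective
  refine ⟨(w : G), ⟨Subgroup.map_subtype_le _, ?_, ?_, ?_, (hmem w).mpr (hfC a b), fun e => hwne (Subtype.ext e),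
    congrArg Subtype.val hww, ?_, ?_, ?_⟩⟩
  · rintro g hg _ ⟨c, hc, rfl⟩
    exact congrArg Subtype.val (hcc hc ⟨g, hg⟩)
  · intro g hg h
    exact (hmem ⟨g, hg⟩).mpr (Subgroup.mem_center_iff.mpr fun v => Subtype.ext (h v v.2).symm)
  · rw [Subgroup.card_map_of_injective P.subtype_injective, ← C.card_mul_index, hidx, mul_comm]
  · intro g hg
    exact (hmem (⟨g, hg⟩ * ⟨g, hg⟩)).mpr (hsq _)
  · intro g hg h hh
    rcases hall ⟨g, hg⟩ ⟨h, hh⟩ with e | e
    · exact Or.inl (mul_inv_eq_one.mp (congrArg Subtype.val e))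
    · exact Or.inr (mul_inv_eq_iff_eq_mul.mp (congrArg Subtype.val e))
  · intro g hg h hh hg' hh' hgh v hv
    have := hfour ⟨g, hg⟩ ⟨h, hh⟩ (fun e => hg' ((hmem ⟨g, hg⟩).mpr e)) (fun e => hh' ((hmem ⟨h, hh⟩).mpr e))
      (fun e => hgh ((hmem (⟨g, hg⟩⁻¹ * ⟨h, hh⟩)).mpr e)) ⟨v, hv⟩
    simp only [← hmem] at this
    exact this

namespace Quad

variable {P Z : Subgroup G} {z : G}

theorem z_inv (h : Quad P Z z) : z⁻¹ = z := inv_eq_of_mul_eq_one_left h.z_sq

theorem z_comm (h : Quad P Z z) {a : G} (ha : a ∈ P) : a * z = z * a := h.central a ha z h.z_mem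

theorem conj_mem_Z (h : Quad P Z z) {a c : G} (ha : a ∈ P) (hc : c ∈ Z) : a * c * a⁻¹ = c := by
  rw [h.central a ha c hc, mul_inv_cancel_right]

/-- Elements of different non-central cosets do not commute. -/
theorem noncomm (h : Quad P Z z) {a b : G} (ha : a ∈ P) (hb : b ∈ P) (ha' : a ∉ Z) (hb' : b ∉ Z)
    (hab : a⁻¹ * b ∉ Z) : a * b ≠ b * a := by
  intro e
  refine ha' (h.mem_Z a ha fun v hv => ?_)
  have hcase := h.four a ha b hb ha' hb' hab v hv
  have key : ∀ r : G, Commute a r → r⁻¹ * v ∈ Z → a * v = v * a := fun r hr hv' => by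
    have := hr.mul_right (show Commute a (r⁻¹ * v) from h.central a ha _ hv')
    rwa [mul_inv_cancel_left] at this
  rcases hcase with h' | h' | h' | h'
  · exact h.central a ha v h'
  · exact key a (Commute.refl a) h'
  · exact key b e h'
  · exact key (a * b) ((Commute.refl a).mul_right e) h'

/-- Conjugation between different non-central cosets multiplies by `z`. -/
theorem conj_eq (h : Quad P Z z) {a b : G} (ha : a ∈ P) (hb : b ∈ P) (ha' : a ∉ Z) (hb' : b ∉ Z)
    (hab : a⁻¹ * b ∉ Z) : a * b * a⁻¹ = z * b :=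
  (h.comm a ha b hb).resolve_left fun e => h.noncomm ha hb ha' hb' hab (mul_inv_eq_iff_eq_mul.mp e)

/-- An element commuting with a non-central `a` lies in `Z ∪ aZ`. -/
theorem mem_of_comm (h : Quad P Z z) {a v : G} (ha : a ∈ P) (hv : v ∈ P) (ha' : a ∉ Z)
    (e : a * v = v * a) : v ∈ Z ∨ a⁻¹ * v ∈ Z :=
  or_iff_not_imp_left.mpr fun hv' => by
    by_contra hav
    exact h.noncomm ha hv ha' hv' hav e

/-- Two elements commuting with a non-central one commute. -/
theorem comm_of_comm (h : Quad P Z z) {a v w : G} (ha : a ∈ P) (hv : v ∈ P) (hw : w ∈ P) (ha' : a ∉ Z)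
    (ev : a * v = v * a) (ew : a * w = w * a) : v * w = w * v := by
  rcases h.mem_of_comm ha hv ha' ev with h1 | h1
  · exact (h.central w hw v h1).symm
  · have h2 : Commute (a * (a⁻¹ * v)) w :=
      (show Commute a w from ew).mul_left (show Commute (a⁻¹ * v) w from (h.central w hw _ h1).symm)
    rwa [mul_inv_cancel_left] at h2

/-- Being outside `Z` only depends on the coset. -/
theorem notMem_of_coset (h : Quad P Z z) {a v : G} (ha : a ∉ Z) (hv : a⁻¹ * v ∈ Z) : v ∉ Z := fun hv' =>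
  ha (by simpa using Z.mul_mem hv' (Z.inv_mem hv))

theorem mul_notMem (h : Quad P Z z) {a b : G} (ha : a ∈ P) (hab : a⁻¹ * b ∉ Z) : a * b ∉ Z := fun e =>
  hab (by
    have h1 := Z.mul_mem (Z.inv_mem (h.sq_mem a ha)) e
    rwa [show (a * a)⁻¹ * (a * b) = a⁻¹ * b by group] at h1)

end Quad

end CfsgLib.CentralFour
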