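import Cfsg.Agent.Lib.GW.Conseq.CentralFour.Base
import Cfsg.Agent.Lib.Transfer
import Cfsg.Agent.Lib.TransferApps

/-!
Fusion of a Sylow 2-subgroup with centre of index four: a non-central element conjugate into the centre produces
an arm, a conjugate `y` of `z` together with a hyperplane `B` of the centre.
-/

set_option autoImplicit false
set_option linter.unusedSectionVars false

namespace CfsgLib.CentralFour

universe u

variable {X : Type u} [Group X] [Finite X] {P : Sylow 2 X} {Z : Subgroup X} {z : X}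

namespace Quad

theorem exists_two (h : Quad (P : Subgroup X) Z z) {a : X} (ha : a ∈ (P : Subgroup X)) (ha' : a ∉ Z) :
    ∃ b ∈ (P : Subgroup X), b ∉ Z ∧ a⁻¹ * b ∉ Z := by
  by_contra hno
  push Not at hno
  exact ha' (h.mem_Z a ha fun v hv => by
    by_cases hv' : v ∈ Z
    · exact h.central a ha v hv'
    · have := (show Commute a a from Commute.refl a).mul_right
        (show Commute a (a⁻¹ * v) from h.central a ha _ (hno v hv hv'))
      rwa [mul_inv_cancel_left] at this)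

theorem exists_notMem (h : Quad (P : Subgroup X) Z z) : ∃ a ∈ (P : Subgroup X), a ∉ Z := by
  by_contra hno
  push Not at hno
  have := Subgroup.card_le_of_le (show (P : Subgroup X) ≤ Z from hno)
  have := h.card
  have := Nat.card_pos (α := Z)
  omega

theorem conj_mem_center (h : Quad (P : Subgroup X) Z z) {n c : X}
    (hn : n ∈ Subgroup.normalizer ((P : Subgroup X) : Set X)) (hc : c ∈ Z) : n * c * n⁻¹ ∈ Z := by
  refine h.mem_Z _ ((Subgroup.mem_normalizer_iff.mp hn c).mp (h.le hc)) fun b hb => ?_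
  have hb' : n⁻¹ * b * n ∈ (P : Subgroup X) := by
    simpa using (Subgroup.mem_normalizer_iff.mp (inv_mem hn) b).mp hb
  calc n * c * n⁻¹ * b = n * (c * (n⁻¹ * b * n)) * n⁻¹ := by group
    _ = n * ((n⁻¹ * b * n) * c) * n⁻¹ := by rw [h.central _ hb' c hc]
    _ = b * (n * c * n⁻¹) := by group

theorem fix_z (h : Quad (P : Subgroup X) Z z) {n : X}
    (hn : n ∈ Subgroup.normalizer ((P : Subgroup X) : Set X)) : n * z * n⁻¹ = z := by
  obtain ⟨a, ha, ha'⟩ := h.exists_notMem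
  obtain ⟨b, hb, hb', hab⟩ := h.exists_two ha ha'
  have e := h.conj_eq ha hb ha' hb' hab
  have hA := (Subgroup.mem_normalizer_iff.mp hn a).mp ha
  have hB := (Subgroup.mem_normalizer_iff.mp hn b).mp hb
  rcases h.comm _ hA _ hB with e' | e'
  · exfalso
    have e'' : n * (a * b * a⁻¹) * n⁻¹ = n * b * n⁻¹ := by rw [← e']; group
    exact h.noncomm ha hb ha' hb' hab
      (mul_inv_eq_iff_eq_mul.mp (mul_left_cancel (mul_right_cancel e'')))
  · have e'' : n * z * n⁻¹ * (n * b * n⁻¹) = z * (n * b * n⁻¹) := by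
      rw [← e', show n * z * n⁻¹ * (n * b * n⁻¹) = n * (z * b) * n⁻¹ by group, ← e]
      group
    exact mul_right_cancel e''

/-- Burnside. -/
theorem burnside (h : Quad (P : Subgroup X) Z z) {a b : X} (ha : a ∈ Z) (hb : b ∈ Z) (hab : IsConj a b) :
    ∃ n ∈ Subgroup.normalizer ((P : Subgroup X) : Set X), n * a * n⁻¹ = b := by
  haveI : Fact (Nat.Prime 2) := ⟨Nat.prime_two⟩
  obtain ⟨g, hg⟩ := isConj_iff.mp hab
  have hC : ∀ c ∈ Z, c ∈ Subgroup.centralizer ((P : Subgroup X) : Set X) := fun c hc =>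
    Subgroup.mem_centralizer_iff.mpr fun v hv => h.central v hv c hc
  obtain ⟨n, hn, e⟩ := P.conj_eq_normalizer_conj_of_mem_centralizer a g⁻¹ (hC a ha)
    (by rw [inv_inv, hg]; exact hC b hb)
  exact ⟨n⁻¹, inv_mem hn, by rw [inv_inv, ← e, inv_inv, hg]⟩

theorem class_center (h : Quad (P : Subgroup X) Z z) {c : X} (hc : c ∈ Z) (hzc : IsConj z c) : c = z := by
  obtain ⟨n, hn, e⟩ := h.burnside h.z_mem hc hzc
  rw [← e, h.fix_z hn]

theorem not_conj (h : Quad (P : Subgroup X) Z z) {b : X} (hb : b ∈ Z) : ¬ IsConj b (z * b) := by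
  haveI : Fact (Nat.Prime 2) := ⟨Nat.prime_two⟩
  intro hc
  obtain ⟨n, hn, e⟩ := h.burnside hb (Z.mul_mem h.z_mem hb) hc
  have key : ∀ j : ℕ, n ^ j * b * (n ^ j)⁻¹ = z ^ j * b := by
    intro j
    induction j with
    | zero => simp
    | succ j ih =>
      calc n ^ (j + 1) * b * (n ^ (j + 1))⁻¹ = n * (n ^ j * b * (n ^ j)⁻¹) * n⁻¹ := by rw [pow_succ']; group
        _ = (n * z * n⁻¹) ^ j * (n * b * n⁻¹) := by rw [ih, conj_pow]; group
        _ = z ^ (j + 1) * b := by rw [h.fix_z hn, e, pow_succ, mul_assoc]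
  obtain ⟨k, m, hm, hkm⟩ := Nat.exists_eq_two_pow_mul_odd (orderOf_pos n).ne'
  have hnm : n ^ m ∈ (P : Subgroup X) := CfsgLib.TransferApps.mem_sylow_of_mem_normalizer P (pow_mem hn m)
    ⟨k, by rw [← pow_mul, mul_comm, ← hkm, pow_orderOf_eq_one]⟩
  have hz : z ^ m = z := by
    obtain ⟨l, rfl⟩ := hm
    rw [pow_succ, pow_mul, pow_two, h.z_sq, one_pow, one_mul]
  have := key m
  rw [h.conj_mem_Z hnm hb, hz] at this
  exact h.z_ne (mul_eq_right.mp this.symm)

theorem mem_cent_iff {a v : X} :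
    v ∈ (P : Subgroup X) ⊓ Subgroup.centralizer ({a} : Set X) ↔ v ∈ (P : Subgroup X) ∧ a * v = v * a := by
  rw [Subgroup.mem_inf, Subgroup.mem_centralizer_singleton_iff]
  exact and_congr_right fun _ => eq_comm

theorem card_cent (h : Quad (P : Subgroup X) Z z) {a : X} (ha : a ∈ (P : Subgroup X)) (ha' : a ∉ Z) :
    Nat.card ((P : Subgroup X) ⊓ Subgroup.centralizer ({a} : Set X) : Subgroup X) = 2 * Nat.card Z := by
  classical
  have hc : ∀ c ∈ Z, a * c = c * a := fun c hc => h.central a ha c hc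
  let f : Bool × Z → ((P : Subgroup X) ⊓ Subgroup.centralizer ({a} : Set X) : Subgroup X) := fun p =>
    ⟨(if p.1 then a else 1) * (p.2 : X), mem_cent_iff.mpr (by
      obtain ⟨t, c, hcz⟩ := p
      cases t
      · simp only [Bool.false_eq_true, if_false, one_mul]; exact ⟨h.le hcz, hc c hcz⟩
      · simp only [if_true]
        exact ⟨Subgroup.mul_mem _ ha (h.le hcz), by rw [mul_assoc a c a, ← hc c hcz]⟩)⟩
  rw [← Nat.card_eq_of_bijective f ⟨?_, ?_⟩, Nat.card_prod, Nat.card_eq_fintype_card, Fintype.card_bool]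
  · rintro ⟨t, c, hcz⟩ ⟨t', c', hcz'⟩ e
    have e' : (if t then a else 1) * c = (if t' then a else 1) * c' := congrArg Subtype.val e
    cases t <;> cases t' <;> simp only [Bool.false_eq_true, if_false, if_true, one_mul] at e'
    · subst e'; rfl
    · exact absurd (by simpa [e'] using Z.mul_mem hcz (Z.inv_mem hcz') : a ∈ Z) ha'
    · exact absurd (by simpa [← e'] using Z.mul_mem hcz' (Z.inv_mem hcz) : a ∈ Z) ha'
    · simp only [mul_right_inj] at e'; subst e'; rfl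
  · rintro ⟨v, hv⟩
    obtain ⟨hvP, hva⟩ := mem_cent_iff.mp hv
    rcases h.mem_of_comm ha hvP ha' hva with hz | hz
    · exact ⟨(false, ⟨v, hz⟩), Subtype.ext (by simp [f])⟩
    · exact ⟨(true, ⟨a⁻¹ * v, hz⟩), Subtype.ext (by simp [f])⟩

/-- Two elements outside `Z` commuting with a non-central element multiply into `Z`. -/
theorem mul_mem_of_comm (h : Quad (P : Subgroup X) Z z) {a v w : X} (ha : a ∈ (P : Subgroup X)) (ha' : a ∉ Z)
    (hv : v ∈ (P : Subgroup X)) (hw : w ∈ (P : Subgroup X)) (hv' : v ∉ Z) (hw' : w ∉ Z)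
    (ev : a * v = v * a) (ew : a * w = w * a) : v * w ∈ Z := by
  have h1 := (h.mem_of_comm ha hv ha' ev).resolve_left hv'
  have h2 := (h.mem_of_comm ha hw ha' ew).resolve_left hw'
  have h3 := Z.mul_mem (h.sq_mem a ha) (Z.mul_mem h1 h2)
  rwa [show a * a * (a⁻¹ * v * (a⁻¹ * w)) = a * (v * a⁻¹) * w by group,
    ← (show Commute a v from ev).inv_left.eq, mul_inv_cancel_left] at h3

/-- An arm: `y` is a conjugate of `z` whose coset fuses to the centre along a hyperplane `B`. -/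
def Arm (P : Sylow 2 X) (Z : Subgroup X) (z y : X) : Prop :=
  y ∈ (P : Subgroup X) ∧ y ∉ Z ∧ IsConj z y ∧ IsConj z (z * y) ∧
    ∃ B : Subgroup X, B ≤ Z ∧ z ∉ B ∧ (∀ c ∈ Z, c ∈ B ∨ z * c ∈ B) ∧
      ∀ b ∈ B, IsConj (y * b) (z * b) ∧ IsConj (z * y * b) (z * b)

theorem exists_transport (h : Quad (P : Subgroup X) Z z) {u a : X} (ha : a ∈ Z) (hua : IsConj u a) :
    ∃ k : X, k * a * k⁻¹ = u ∧ ∀ v ∈ (P : Subgroup X), u * v = v * u → k⁻¹ * v * k ∈ (P : Subgroup X) := by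
  haveI : Fact (Nat.Prime 2) := ⟨Nat.prime_two⟩
  obtain ⟨g, hg⟩ := isConj_iff.mp hua
  set C := Subgroup.centralizer ({u} : Set X)
  have hTC : ((g⁻¹ • P : Sylow 2 X) : Subgroup X) ≤ C := by
    rintro _ ⟨v, hv, rfl⟩
    refine Subgroup.mem_centralizer_singleton_iff.mpr ?_
    show g⁻¹ * v * g⁻¹⁻¹ * u = u * (g⁻¹ * v * g⁻¹⁻¹)
    have e1 : v * a = a * v := h.central v hv a ha
    have e2 : u = g⁻¹ * a * g := by rw [← hg]; group
    rw [inv_inv, e2]
    calc g⁻¹ * v * g * (g⁻¹ * a * g) = g⁻¹ * (v * a) * g := by group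
      _ = g⁻¹ * (a * v) * g := by rw [e1]
      _ = g⁻¹ * a * g * (g⁻¹ * v * g) := by group
  obtain ⟨R, hR⟩ := ((P.2.to_le inf_le_left).of_equiv
    (Subgroup.subgroupOfEquivOfLe (inf_le_right : (P : Subgroup X) ⊓ C ≤ C)).symm).exists_le_sylow
  obtain ⟨c, hc⟩ := MulAction.exists_smul_eq C R ((g⁻¹ • P : Sylow 2 X).subtype hTC)
  refine ⟨(c : X)⁻¹ * g⁻¹, ?_, fun v hv e => ?_⟩
  · have hcu : (c : X) * u = u * c := Subgroup.mem_centralizer_singleton_iff.mp c.2
    calc (c : X)⁻¹ * g⁻¹ * a * ((c : X)⁻¹ * g⁻¹)⁻¹ = (c : X)⁻¹ * (g⁻¹ * a * g) * c := by group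
      _ = (c : X)⁻¹ * u * c := by rw [← hg]; group
      _ = u := by rw [mul_assoc, ← hcu, inv_mul_cancel_left]
  · have hvC : v ∈ (P : Subgroup X) ⊓ C := ⟨hv, Subgroup.mem_centralizer_singleton_iff.mpr e.symm⟩
    have h1 : (⟨v, hvC.2⟩ : C) ∈ (R : Subgroup C) := hR hvC
    have h2 : c * ⟨v, hvC.2⟩ * c⁻¹ ∈ (((g⁻¹ • P : Sylow 2 X).subtype hTC : Sylow 2 C) : Subgroup C) := by
      rw [← hc]; exact ⟨_, h1, rfl⟩
    obtain ⟨w, hw, hwe⟩ := h2
    have hwe' : g⁻¹ * w * g⁻¹⁻¹ = (c : X) * v * (c : X)⁻¹ := hwe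
    have : ((c : X)⁻¹ * g⁻¹)⁻¹ * v * ((c : X)⁻¹ * g⁻¹) = w := by
      calc ((c : X)⁻¹ * g⁻¹)⁻¹ * v * ((c : X)⁻¹ * g⁻¹) = g * ((c : X) * v * (c : X)⁻¹) * g⁻¹ := by group
        _ = w := by rw [← hwe']; group
    rw [this]; exact hw

/-- A non-central element conjugate into the centre gives an arm in its coset. -/
theorem exists_arm (h : Quad (P : Subgroup X) Z z) {u a : X} (hu : u ∈ (P : Subgroup X)) (hu' : u ∉ Z)
    (ha : a ∈ Z) (hua : IsConj u a) : ∃ y, Arm P Z z y ∧ u⁻¹ * y ∈ Z := by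
  classical
  haveI : Fact (Nat.Prime 2) := ⟨Nat.prime_two⟩
  obtain ⟨k, hka, hk⟩ := h.exists_transport ha hua
  set A : Subgroup X := (P : Subgroup X) ⊓ Subgroup.centralizer ({u} : Set X)
  have hmemA : ∀ {v : X}, v ∈ A ↔ v ∈ (P : Subgroup X) ∧ u * v = v * u := mem_cent_iff
  have hAcomm : ∀ v ∈ A, ∀ w ∈ A, v * w = w * v := fun v hv w hw =>
    h.comm_of_comm hu (hmemA.mp hv).1 (hmemA.mp hw).1 hu' (hmemA.mp hv).2 (hmemA.mp hw).2
  have hZA : Z ≤ A := fun c hc => hmemA.mpr ⟨h.le hc, h.central u hu c hc⟩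
  set A' : Subgroup X := A.map (MulAut.conj k⁻¹).toMonoidHom with hA'
  have hA'c : Nat.card A' = 2 * Nat.card Z := by
    rw [hA', Subgroup.card_map_of_injective (MulAut.conj k⁻¹).injective, h.card_cent hu hu']
  have hA'P : A' ≤ (P : Subgroup X) := by
    rintro _ ⟨v, hv, rfl⟩
    show k⁻¹ * v * k⁻¹⁻¹ ∈ _
    rw [inv_inv]
    exact hk v (hmemA.mp hv).1 (hmemA.mp hv).2
  obtain ⟨v', hv'A, hv'Z⟩ : ∃ v' ∈ A', v' ∉ Z := by
    by_contra hno
    push Not at hno
    have := Subgroup.card_le_of_le (show A' ≤ Z from hno)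
    have := Nat.card_pos (α := Z)
    omega
  have hv'P := hA'P hv'A
  have hA'e : A' = (P : Subgroup X) ⊓ Subgroup.centralizer ({v'} : Set X) := by
    refine Subgroup.eq_of_le_of_card_ge (fun w hw => mem_cent_iff.mpr ⟨hA'P hw, ?_⟩)
      (by rw [hA'c, h.card_cent hv'P hv'Z])
    obtain ⟨w₁, hw₁, rfl⟩ := hw
    obtain ⟨w₂, hw₂, rfl⟩ := hv'A
    rw [← map_mul, ← map_mul, hAcomm _ hw₂ _ hw₁]
  have hback : ∀ {w : X}, w ∈ (P : Subgroup X) → v' * w = w * v' → k * w * k⁻¹ ∈ A := by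
    intro w hw e
    obtain ⟨v, hv, hvw⟩ : w ∈ A' := hA'e.symm ▸ mem_cent_iff.mpr ⟨hw, e⟩
    rw [← hvw]
    show k * (k⁻¹ * v * k⁻¹⁻¹) * k⁻¹ ∈ A
    rw [show k * (k⁻¹ * v * k⁻¹⁻¹) * k⁻¹ = v by group]
    exact hv
  have hfwd : ∀ {v : X}, v ∈ A → k⁻¹ * v * k ∈ (P : Subgroup X) ∧ v' * (k⁻¹ * v * k) = k⁻¹ * v * k * v' := by
    intro v hv
    have : k⁻¹ * v * k ∈ A' := ⟨v, hv, by show k⁻¹ * v * k⁻¹⁻¹ = _; rw [inv_inv]⟩
    rw [hA'e] at this
    exact mem_cent_iff.mp this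
  have hcA : ∀ c ∈ Z, k * c * k⁻¹ ∈ A := fun c hc => hback (h.le hc) (h.central v' hv'P c hc)
  set y := k * z * k⁻¹ with hy
  have hyA : y ∈ A := hcA z h.z_mem
  obtain ⟨r', hr', hr'Z, hr'v⟩ := h.exists_two hv'P hv'Z
  set r := k * r' * k⁻¹ with hr
  -- `r` acts on `A` as a transvection with centre `y`
  have hrA : ∀ v ∈ A, (k⁻¹ * v * k ∈ Z ∧ r * v * r⁻¹ = v) ∨ (k⁻¹ * v * k ∉ Z ∧ r * v * r⁻¹ = y * v) := by
    intro v hv
    obtain ⟨hwP, hwc⟩ := hfwd hv
    by_cases hwZ : k⁻¹ * v * k ∈ Z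
    · refine Or.inl ⟨hwZ, ?_⟩
      calc r * v * r⁻¹ = k * (r' * (k⁻¹ * v * k) * r'⁻¹) * k⁻¹ := by rw [hr]; group
        _ = v := by rw [h.conj_mem_Z hr' hwZ]; group
    · refine Or.inr ⟨hwZ, ?_⟩
      have h1 : r'⁻¹ * (k⁻¹ * v * k) ∉ Z := fun e => hr'v (by
        have h2 := (h.mem_of_comm hv'P hwP hv'Z hwc).resolve_left hwZ
        have h3 := Z.mul_mem h2 (Z.inv_mem e)
        rwa [show v'⁻¹ * (k⁻¹ * v * k) * (r'⁻¹ * (k⁻¹ * v * k))⁻¹ = v'⁻¹ * r' by group] at h3)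
      calc r * v * r⁻¹ = k * (r' * (k⁻¹ * v * k) * r'⁻¹) * k⁻¹ := by rw [hr]; group
        _ = y * v := by rw [h.conj_eq hr' hwP hr'Z hwZ h1, hy]; group
  -- `y` is not central
  have hyZ : y ∉ Z := by
    intro hyc
    have hyz : y = z := h.class_center hyc (isConj_iff.mpr ⟨k, rfl⟩)
    let S₀ : Submonoid X :=
      { carrier := {g | g * z = z * g ∧ ∀ v ∈ A, g * v * g⁻¹ = v ∨ g * v * g⁻¹ = z * v}
        one_mem' := ⟨by simp, fun v _ => Or.inl (by simp)⟩
        mul_mem' := fun {g g'} hg hg' => ⟨(show Commute g z from hg.1).mul_left (show Commute g' z from hg'.1),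
          fun v hv => by
            have e0 : g * g' * v * (g * g')⁻¹ = g * (g' * v * g'⁻¹) * g⁻¹ := by group
            have e1 : g * z * g⁻¹ = z := by rw [hg.1, mul_inv_cancel_right]
            rw [e0]
            rcases hg'.2 v hv with e | e <;> rw [e]
            · exact hg.2 v hv
            · have e2 : g * (z * v) * g⁻¹ = z * (g * v * g⁻¹) := by
                conv_rhs => rw [← e1]
                group
              rw [e2]
              rcases hg.2 v hv with e' | e' <;> rw [e']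
              · exact Or.inr rfl
              · exact Or.inl (by rw [← mul_assoc, h.z_sq, one_mul])⟩ }
    let S : Subgroup X :=
      { S₀ with
        inv_mem' := fun {g} hg => by
          show g⁻¹ ∈ S₀
          rw [inv_eq_of_mul_eq_one_left (show g ^ (orderOf g - 1) * g = 1 by
            rw [← pow_succ, Nat.sub_add_cancel (orderOf_pos g), pow_orderOf_eq_one])]
          exact S₀.pow_mem hg _ }
    have hmemS : ∀ {g : X}, g ∈ S ↔ g * z = z * g ∧ ∀ v ∈ A, g * v * g⁻¹ = v ∨ g * v * g⁻¹ = z * v :=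
      Iff.rfl
    have hPS : (P : Subgroup X) ≤ S := fun p hp =>
      hmemS.mpr ⟨h.z_comm hp, fun v hv => h.comm p hp v (hmemA.mp hv).1⟩
    have hrS : r ∈ S := hmemS.mpr ⟨by
      rcases hrA z (hyz ▸ hyA) with ⟨-, e⟩ | ⟨hn, -⟩
      · exact mul_inv_eq_iff_eq_mul.mp e
      · exact absurd (by
          have : k⁻¹ * z * k = z := by
            conv_lhs => rw [← hyz, hy]
            group
          rw [this]; exact h.z_mem) hn,
      fun v hv => by
        rcases hrA v hv with ⟨-, e⟩ | ⟨-, e⟩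
        · exact Or.inl e
        · exact Or.inr (hyz ▸ e)⟩
    let N : Subgroup S := (Subgroup.centralizer (A : Set X)).subgroupOf S
    haveI : N.Normal := ⟨fun n hn g => by
      refine Subgroup.mem_subgroupOf.mpr (Subgroup.mem_centralizer_iff.mpr fun v hv => ?_)
      have hn' := Subgroup.mem_centralizer_iff.mp (Subgroup.mem_subgroupOf.mp hn)
      have hgv : (g : X)⁻¹ * v * g ∈ A := by
        rcases (hmemS.mp (S.inv_mem g.2)).2 v hv with e | e <;> rw [inv_inv] at e <;> rw [e]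
        · exact hv
        · exact A.mul_mem (hZA h.z_mem) hv
      show v * ((g : X) * n * (g : X)⁻¹) = (g : X) * n * (g : X)⁻¹ * v
      calc v * ((g : X) * n * (g : X)⁻¹) = g * ((g : X)⁻¹ * v * g * n) * (g : X)⁻¹ := by group
        _ = g * (n * ((g : X)⁻¹ * v * g)) * (g : X)⁻¹ := by rw [hn' _ hgv]
        _ = (g : X) * n * (g : X)⁻¹ * v := by group⟩
    have h2N : ∀ g : S, g * g ∈ N := fun g => by
      refine Subgroup.mem_subgroupOf.mpr (Subgroup.mem_centralizer_iff.mpr fun v hv => ?_)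
      refine (mul_inv_eq_iff_eq_mul.mp ?_).symm
      rw [Subgroup.coe_mul, show (g : X) * g * v * ((g : X) * g)⁻¹ = g * ((g : X) * v * (g : X)⁻¹) * (g : X)⁻¹ by group]
      rcases (hmemS.mp g.2).2 v hv with e | e <;> rw [e]
      · exact e
      · have e1 : (g : X) * z * (g : X)⁻¹ = z := by rw [(hmemS.mp g.2).1, mul_inv_cancel_right]
        calc (g : X) * (z * v) * (g : X)⁻¹ = (g : X) * z * (g : X)⁻¹ * ((g : X) * v * (g : X)⁻¹) := by group
          _ = z * (z * v) := by rw [e1, e]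
          _ = v := by rw [← mul_assoc, h.z_sq, one_mul]
    have hq : IsPGroup 2 (S ⧸ N) := fun x => by
      obtain ⟨g, rfl⟩ := QuotientGroup.mk_surjective x
      exact ⟨1, by rw [pow_one, pow_two]; exact (QuotientGroup.eq_one_iff _).mpr (h2N g)⟩
    have htop := CfsgLib.Transfer.sylow_sup_eq_top_of_isPGroup_quotient (P.subtype hPS) N hq
    obtain ⟨p, hp, n, hn, hpn⟩ := Subgroup.mem_sup_of_normal_right.mp (htop.ge (Subgroup.mem_top ⟨r, hrS⟩))
    have hpP : (p : X) ∈ (P : Subgroup X) := hp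
    have hn' := Subgroup.mem_centralizer_iff.mp (Subgroup.mem_subgroupOf.mp hn)
    have hr_eq : (p : X) * n = r := congrArg Subtype.val hpn
    have hract : ∀ v ∈ A, r * v * r⁻¹ = p * v * (p : X)⁻¹ := fun v hv => by
      rw [← hr_eq, show (p : X) * n * v * ((p : X) * n)⁻¹ = p * ((n : X) * v * (n : X)⁻¹) * (p : X)⁻¹ by group,
        ← hn' v hv, mul_inv_cancel_right]
    have hua' : r * u * r⁻¹ = u := by
      rcases hrA u (hmemA.mpr ⟨hu, rfl⟩) with ⟨-, e⟩ | ⟨hn, -⟩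
      · exact e
      · exact absurd (by
          have : k⁻¹ * u * k = a := by rw [← hka]; group
          rw [this]; exact ha) hn
    have hpA : (p : X) ∈ A := by
      refine hmemA.mpr ⟨hpP, ?_⟩
      have := hract u (hmemA.mpr ⟨hu, rfl⟩)
      rw [hua'] at this
      exact eq_mul_inv_iff_mul_eq.mp this
    have hvA : k * v' * k⁻¹ ∈ A := hback hv'P rfl
    have e1 : r * (k * v' * k⁻¹) * r⁻¹ = k * v' * k⁻¹ := by
      rw [hract _ hvA, hAcomm _ hpA _ hvA, mul_inv_cancel_right]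
    rcases hrA _ hvA with ⟨hz', -⟩ | ⟨-, e⟩
    · exact hv'Z (by rwa [show k⁻¹ * (k * v' * k⁻¹) * k = v' by group] at hz')
    · rw [e1, hyz] at e
      exact h.z_ne (mul_eq_right.mp e.symm)
  have hyP := (hmemA.mp hyA).1
  have hzy : IsConj z y := isConj_iff.mpr ⟨k, rfl⟩
  have hz2 : k⁻¹ * z * k ∉ Z := fun e => hyZ (by
    have := h.class_center e (isConj_iff.mpr ⟨k⁻¹, by rw [inv_inv]⟩)
    have : y = z := by
      rw [hy]; conv_lhs => rw [← this]
      group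
    rw [this]; exact h.z_mem)
  obtain ⟨p, hp, hp', hyp⟩ := h.exists_two hyP hyZ
  have hpy : p * y * p⁻¹ = z * y := h.conj_eq hp hyP hp' hyZ (fun e => hyp (by
    have := Z.inv_mem e
    rwa [mul_inv_rev, inv_inv] at this))
  have hrz : r * z * r⁻¹ = y * z :=
    ((hrA z (hZA h.z_mem)).resolve_left fun e => hz2 e.1).2
  refine ⟨y, ⟨hyP, hyZ, hzy, hzy.trans (isConj_iff.mpr ⟨p, hpy⟩),
    Z ⊓ Z.map (MulAut.conj k).toMonoidHom, inf_le_left, fun e => hz2 ?_, fun c hc => ?_, fun b hb => ?_⟩, ?_⟩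
  · obtain ⟨c, hc, hce⟩ := e.2
    rw [← show k * c * k⁻¹ = z from hce]
    rwa [show k⁻¹ * (k * c * k⁻¹) * k = c by group]
  · by_cases hcz : k⁻¹ * c * k ∈ Z
    · exact Or.inl ⟨hc, k⁻¹ * c * k, hcz, by show k * (k⁻¹ * c * k) * k⁻¹ = c; group⟩
    · refine Or.inr ⟨Z.mul_mem h.z_mem hc, k⁻¹ * (z * c) * k, ?_, by show k * (k⁻¹ * (z * c) * k) * k⁻¹ = _; group⟩
      rw [show k⁻¹ * (z * c) * k = k⁻¹ * z * k * (k⁻¹ * c * k) by group]
      exact h.mul_mem_of_comm hv'P hv'Z (hfwd (hZA h.z_mem)).1 (hfwd (hZA hc)).1 hz2 hcz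
        (hfwd (hZA h.z_mem)).2 (hfwd (hZA hc)).2
  · obtain ⟨hbZ, c, hc, hce⟩ := hb
    have hce' : k * c * k⁻¹ = b := hce
    have hrb : r * b * r⁻¹ = b := by
      rw [← hce', hr]
      calc k * r' * k⁻¹ * (k * c * k⁻¹) * (k * r' * k⁻¹)⁻¹ = k * (r' * c * r'⁻¹) * k⁻¹ := by group
        _ = _ := by rw [h.conj_mem_Z hr' hc]
    have h1 : IsConj (z * y * b) (z * b) := by
      refine (isConj_iff.mpr ⟨r, ?_⟩).symm
      calc r * (z * b) * r⁻¹ = r * z * r⁻¹ * (r * b * r⁻¹) := by group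
        _ = z * y * b := by rw [hrz, hrb, h.z_comm hyP]
    refine ⟨(isConj_iff.mpr ⟨p, ?_⟩).trans h1, h1⟩
    calc p * (y * b) * p⁻¹ = p * y * p⁻¹ * (p * b * p⁻¹) := by group
      _ = z * y * b := by rw [hpy, h.conj_mem_Z hp hbZ]
  · exact (h.mem_of_comm hu hyP hu' (hmemA.mp hyA).2).resolve_left hyZ

end Quad

end CfsgLib.CentralFour
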