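import Cfsg.Agent.Lib.GW.Conseq.CentralFour.Nonabelian
import Cfsg.Agent.Lib.AltMult.Small

/-!
Quasisimple groups with a non-abelian Sylow 2-subgroup whose centre has index four, given the Gorenstein–Walter
theorem.
-/

set_option autoImplicit false
set_option linter.unusedSectionVars false

namespace CfsgLib.CentralFour

open Cfsg CfsgLib.GW
open scoped commutatorElement

universe u

variable {G : Type u} [Group G] [Finite G]

/-- In a perfect group the central 2-elements of the Sylow subgroup are commutators of it. -/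
theorem Quad.central_mem [Group.IsPerfect G] {P : Sylow 2 G} {Z : Subgroup G} {z : G}
    (h : Quad (P : Subgroup G) Z z) {c : G} (hc : c ∈ Subgroup.center G) (hcP : c ∈ (P : Subgroup G)) :
    c = 1 ∨ c = z := by
  haveI : Fact (Nat.Prime 2) := ⟨Nat.prime_two⟩
  set zP : (P : Subgroup G) := ⟨z, h.le h.z_mem⟩
  have hzP2 : ∀ w ∈ Subgroup.zpowers zP, w = 1 ∨ w = zP := by
    rintro w ⟨i, rfl⟩
    have hzz : zP * zP = 1 := Subtype.ext h.z_sq
    rcases Int.even_or_odd i with ⟨j, rfl⟩ | ⟨j, rfl⟩
    · exact Or.inl (by simp only [zpow_add, ← Commute.mul_zpow (Commute.refl zP), hzz, one_zpow])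
    · exact Or.inr (by simp only [zpow_add, zpow_one, zpow_mul, zpow_two, hzz, one_zpow, one_mul])
  have hcomm : commutator (P : Subgroup G) ≤ Subgroup.zpowers zP := by
    rw [commutator_def, Subgroup.commutator_le]
    intro a _ b _
    rcases h.comm a a.2 b b.2 with e | e
    · rw [show ⁅a, b⁆ = 1 from Subtype.ext (by
        rw [commutatorElement_def]; push_cast; rw [e, mul_inv_cancel])]
      exact one_mem _
    · rw [show ⁅a, b⁆ = zP from Subtype.ext (by
        rw [commutatorElement_def]; push_cast; rw [e, mul_inv_cancel_right])]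
      exact Subgroup.mem_zpowers _
  let φ : (P : Subgroup G) →* Abelianization (P : Subgroup G) := Abelianization.of
  have key : ∀ (k : ℕ) (g₀ : G), g₀⁻¹ * c ^ k * g₀ ∈ (P : Subgroup G) → g₀⁻¹ * c ^ k * g₀ = c ^ k :=
    fun k g₀ _ => by
      rw [mul_assoc, ← Subgroup.mem_center_iff.mp (pow_mem hc k) g₀, inv_mul_cancel_left]
  have h1 := MonoidHom.transfer_eq_pow φ c key
  have h0 : MonoidHom.transfer φ c = 1 := by
    have hs : commutator G ≤ (MonoidHom.transfer φ).ker := Abelianization.commutator_subset_ker _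
    rw [Group.IsPerfect.commutator_eq_top] at hs
    exact hs (Subgroup.mem_top c)
  rw [h0] at h1
  have h2 : (⟨c, hcP⟩ : (P : Subgroup G)) ^ (P : Subgroup G).index ∈ commutator (P : Subgroup G) := by
    rw [← Abelianization.ker_of]; exact h1.symm
  obtain ⟨k, hk⟩ := IsPGroup.iff_orderOf.mp P.2 ⟨c, hcP⟩
  obtain ⟨m, hm⟩ := exists_pow_eq_self_of_coprime (x := (⟨c, hcP⟩ : (P : Subgroup G)))
    (n := (P : Subgroup G).index) (by
      rw [hk]
      exact Nat.Coprime.pow_right k ((Nat.Prime.coprime_iff_not_dvd Nat.prime_two).mpr P.not_dvd_index).symm)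
  have h3 := Subgroup.pow_mem _ (hcomm h2) m
  rw [hm] at h3
  rcases hzP2 _ h3 with e | e
  · exact Or.inl (congrArg Subtype.val e)
  · exact Or.inr (congrArg Subtype.val e)

theorem exists_small_copy (H : Type u) [Group H] [Finite H] :
    ∃ (Γ : Type) (_ : Group Γ) (_ : Finite Γ), Nonempty (H ≃* Γ) := by
  obtain ⟨n, ⟨e⟩⟩ := Finite.exists_equiv_fin H
  let f : H →* Equiv.Perm (Fin n) := e.permCongrHom.toMonoidHom.comp (MulAction.toPermHom H H)
  have hf : Function.Injective f := e.permCongrHom.injective.comp MulAction.toPerm_injective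
  exact ⟨f.range, inferInstance, inferInstance, ⟨MonoidHom.ofInjective hf⟩⟩

/-- A quasisimple group over the alternating group of degree seven has centre of order dividing six. -/
theorem card_center_alt_seven [Group.IsPerfect G]
    (e : G ⧸ Subgroup.center G ≃* alternatingGroup (Fin 7)) : Nat.card (Subgroup.center G) ∣ 6 := by
  obtain ⟨Γ, _, _, ⟨f⟩⟩ := exists_small_copy G
  let π : G →* alternatingGroup (Fin 7) := e.toMonoidHom.comp (QuotientGroup.mk' _)
  let σ : Γ →* alternatingGroup (Fin 7) := π.comp f.symm.toMonoidHom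
  have hker : ∀ g : G, f g ∈ σ.ker ↔ g ∈ Subgroup.center G := fun g => by
    simp [σ, π, MonoidHom.mem_ker]
  haveI : Group.IsPerfect Γ := Group.IsPerfect.ofSurjective (f := f.toMonoidHom) f.surjective
  have hst : Cfsg.IsStemExtension σ := by
    refine ⟨e.surjective.comp ((QuotientGroup.mk'_surjective _).comp f.symm.surjective), fun y hy => ?_, ?_⟩
    · obtain ⟨g, rfl⟩ := f.surjective y
      refine Subgroup.mem_center_iff.mpr fun w => ?_
      obtain ⟨w', rfl⟩ := f.surjective w
      rw [← map_mul, ← map_mul, Subgroup.mem_center_iff.mp ((hker g).mp hy) w']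
    · rw [Group.IsPerfect.commutator_eq_top]; exact le_top
  obtain ⟨g, hg, hg6, hle⟩ := (CfsgLib.AltMult.facts 7 (Or.inr rfl)).2 Γ inferInstance inferInstance σ hst
  have hc : Nat.card (Subgroup.center G) = Nat.card σ.ker := by
    refine Nat.card_eq_of_bijective (fun x => (⟨f x, (hker x).mpr x.2⟩ : σ.ker)) ⟨fun a b h => ?_, fun y => ?_⟩
    · exact Subtype.ext (f.injective (congrArg (fun v : σ.ker => (v : Γ)) h))
    · obtain ⟨x, hx⟩ := f.surjective y
      exact ⟨⟨x, (hker x).mp (hx ▸ y.2)⟩, Subtype.ext hx⟩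
  rw [hc, show σ.ker = Subgroup.zpowers g from le_antisymm hle (Subgroup.zpowers_le.mpr hg), Nat.card_zpowers]
  exact orderOf_dvd_of_pow_eq_one hg6

/-- **The statement of S4594**, given the Gorenstein–Walter theorem. -/
theorem quasisimple_central_index_four
    (hGW : ∀ (H : Type u) [Group H] [Finite H] [Group.IsPerfect H], GWDihedral H → GWModel (H ⧸ oddCore H))
    (hq : IsQuasisimple G) (P : Sylow 2 G) (hna : ¬ IsMulCommutative (P : Subgroup G))
    (hidx : (Subgroup.center (P : Subgroup G)).index = 4) :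
    Nat.card (P : Subgroup G) = 8 ∧
      (Nonempty (G ≃* alternatingGroup (Fin 7)) ∨
       (Nat.card (Subgroup.center G) = 3 ∧ Nonempty (G ⧸ Subgroup.center G ≃* alternatingGroup (Fin 7))) ∨
       ∃ (F : Type) (_ : Field F) (_ : Fintype F), Odd (Fintype.card F) ∧
        Nonempty (G ⧸ Subgroup.center G ≃* Matrix.ProjectiveSpecialLinearGroup (Fin 2) F)) := by
  classical
  haveI : Fact (Nat.Prime 2) := ⟨Nat.prime_two⟩
  haveI := hq.1
  haveI := hq.2
  haveI : Group.IsPerfect (G ⧸ Subgroup.center G) :=
    Group.IsPerfect.ofSurjective (f := QuotientGroup.mk' _) (QuotientGroup.mk'_surjective _)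
  set π := QuotientGroup.mk' (Subgroup.center G)
  have hπ : Function.Surjective π := QuotientGroup.mk'_surjective _
  have hπker : ∀ x : G, π x = 1 ↔ x ∈ Subgroup.center G := fun x => QuotientGroup.eq_one_iff x
  have hX : ¬ IsMulCommutative (G ⧸ Subgroup.center G) := fun h => by
    haveI := h
    exact not_subsingleton _ (Group.IsPerfect.subsingleton_of_isMulCommutative (G := G ⧸ Subgroup.center G))
  obtain ⟨z, h⟩ := exists_quad (P : Subgroup G) hna hidx
  set Z := (Subgroup.center (P : Subgroup G)).map (P : Subgroup G).subtype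
  set Q : Sylow 2 (G ⧸ Subgroup.center G) := P.mapSurjective hπ
  have hQ : (Q : Subgroup (G ⧸ Subgroup.center G)) = (P : Subgroup G).map π := Sylow.coe_mapSurjective hπ P
  have hevenP : ∀ n, Nat.card Q = 2 ^ n * 4 → Even (Nat.card (G ⧸ Subgroup.center G)) := fun n hn => by
    rw [even_iff_two_dvd]
    exact Dvd.dvd.trans (hn ▸ dvd_mul_of_dvd_right (by norm_num) _)
      (Q : Subgroup (G ⧸ Subgroup.center G)).card_subgroup_dvd_card
  have hmodel : Even (Nat.card (G ⧸ Subgroup.center G)) → GWDihedral (G ⧸ Subgroup.center G) →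
      GWModel (G ⧸ Subgroup.center G) := fun he hd =>
    GWModel.of_equiv ((QuotientGroup.quotientMulEquivOfEq (oddCore_eq_bot he)).trans
      QuotientGroup.quotientBot).symm (hGW _ hd)
  by_cases hzc : z ∈ Subgroup.center G
  · -- the image of the Sylow subgroup is abelian
    have hcard2 : ∀ (K : Subgroup G), z ∈ K → K ≤ (P : Subgroup G) →
        Nat.card K = 2 * Nat.card (K.map π) := by
      intro K hzK hKP
      have hk2 : Nat.card (π.comp K.subtype).ker = 2 := by
        refine (Nat.card_eq_two_iff' (1 : (π.comp K.subtype).ker)).mpr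
          ⟨⟨⟨z, hzK⟩, (hπker z).mpr hzc⟩, fun e => h.z_ne (congrArg (fun v : (π.comp K.subtype).ker => ((v : K) : G)) e),
            fun v hv => Subtype.ext (Subtype.ext ?_)⟩
        exact ((h.central_mem ((hπker _).mp v.2) (hKP (v : K).2)).resolve_left fun e =>
          hv (Subtype.ext (Subtype.ext e)))
      rw [← (π.comp K.subtype).ker.card_mul_index, Subgroup.index_ker, hk2, MonoidHom.range_comp,
        Subgroup.range_subtype]
    have hP2 := hcard2 P (h.le h.z_mem) le_rfl
    have hZ2 := hcard2 Z h.z_mem h.le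
    haveI : IsMulCommutative (Q : Subgroup (G ⧸ Subgroup.center G)) := ⟨⟨fun x y => by
      obtain ⟨a, ha, hax⟩ : (x : G ⧸ Subgroup.center G) ∈ (P : Subgroup G).map π := hQ ▸ x.2
      obtain ⟨b, hb, hby⟩ : (y : G ⧸ Subgroup.center G) ∈ (P : Subgroup G).map π := hQ ▸ y.2
      refine Subtype.ext ?_
      rw [Subgroup.coe_mul, Subgroup.coe_mul, ← hax, ← hby, ← map_mul, ← map_mul]
      rcases h.comm a ha b hb with e | e
      · rw [mul_inv_eq_iff_eq_mul.mp e]
      · rw [mul_inv_eq_iff_eq_mul.mp e, mul_assoc, map_mul, (hπker z).mpr hzc, one_mul]⟩⟩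
    have hQc : Nat.card Q = 4 * Nat.card (Z.map π) := by
      have e1 : Nat.card Q = Nat.card ((P : Subgroup G).map π) := by
        rw [show Nat.card Q = Nat.card (Q : Subgroup (G ⧸ Subgroup.center G)) from rfl, hQ]
      have := h.card
      have e2 : Nat.card P = Nat.card (P : Subgroup G) := rfl
      omega
    obtain ⟨hQ4, hexp⟩ := card_eq_four hX Q (W := Z.map π) (hQ ▸ Subgroup.map_mono h.le) hQc
      (by
        intro x hx
        obtain ⟨a, ha, rfl⟩ : x ∈ (P : Subgroup G).map π := hQ ▸ hx
        exact ⟨a * a, h.sq_mem a ha, map_mul π a a⟩)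
      (by
        intro n hn x hx
        obtain ⟨c, hc, rfl⟩ := hx
        obtain ⟨n, rfl⟩ := hπ n
        have hmap : ∀ p ∈ (P : Subgroup G), n * p * n⁻¹ ∈ (P : Subgroup G) := by
          intro p hp
          obtain ⟨p', hp', he⟩ : π n * π p * (π n)⁻¹ ∈ (P : Subgroup G).map π := by
            rw [← hQ]; exact (Subgroup.mem_normalizer_iff.mp hn _).mp (hQ ▸ ⟨p, hp, rfl⟩)
          set k := p'⁻¹ * (n * p * n⁻¹) with hk
          have hkc : k ∈ Subgroup.center G := (hπker k).mp (by simp [hk, ← he])
          have hk2 : ∃ j : ℕ, k ^ 2 ^ j = 1 := by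
            obtain ⟨i, hi⟩ := P.2 ⟨p, hp⟩
            obtain ⟨j, hj⟩ := P.2 ⟨p', hp'⟩
            have hpi : p ^ 2 ^ i = 1 := congrArg Subtype.val hi
            have hpj : p' ^ 2 ^ j = 1 := congrArg Subtype.val hj
            have hcm : Commute p' k := Subgroup.mem_center_iff.mp hkc p'
            refine ⟨i + j, ?_⟩
            have e1 : (p' * k) ^ 2 ^ (i + j) = 1 := by
              rw [hk, mul_inv_cancel_left, conj_pow, pow_add, pow_mul, hpi, one_pow, mul_one, mul_inv_cancel]
            rw [hcm.mul_pow, pow_add, mul_comm (2 ^ i), pow_mul, hpj, one_pow, one_mul] at e1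
            rw [pow_add, mul_comm (2 ^ i)]
            exact e1
          have hkN : k ∈ Subgroup.normalizer ((P : Subgroup G) : Set G) := Subgroup.mem_normalizer_iff.mpr fun w => by
            rw [← Subgroup.mem_center_iff.mp hkc w, mul_inv_cancel_right]
          have := Subgroup.mul_mem _ hp' (CfsgLib.TransferApps.mem_sylow_of_mem_normalizer P hkN hk2)
          rwa [hk, mul_inv_cancel_left] at this
        have hnN : n ∈ Subgroup.normalizer ((P : Subgroup G) : Set G) := by
          rw [Subgroup.mem_normalizer_iff_map_conj_eq]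
          refine Subgroup.eq_of_le_of_card_ge ?_
            (le_of_eq (Subgroup.card_map_of_injective (MulAut.conj n).injective).symm)
          rintro _ ⟨p, hp, rfl⟩
          exact hmap p hp
        exact ⟨n * c * n⁻¹, h.conj_mem_center hnN hc, by rw [map_mul, map_mul, map_inv]⟩)
    have hP8 : Nat.card (P : Subgroup G) = 8 := by
      have e1 : Nat.card Q = Nat.card ((P : Subgroup G).map π) := by
        rw [show Nat.card Q = Nat.card (Q : Subgroup (G ⧸ Subgroup.center G)) from rfl, hQ]
      omega
    haveI : IsKleinFour (Q : Subgroup (G ⧸ Subgroup.center G)) := ⟨hQ4, by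
      haveI : Nontrivial (Q : Subgroup (G ⧸ Subgroup.center G)) := by
        rw [← Finite.one_lt_card_iff_nontrivial]
        have : Nat.card (Q : Subgroup (G ⧸ Subgroup.center G)) = 4 := hQ4
        omega
      refine Monoid.exponent_eq_prime_iff Nat.prime_two |>.mpr fun g hg => orderOf_eq_prime ?_ hg
      rw [pow_two]
      exact Subtype.ext (hexp g g.2)⟩
    refine ⟨hP8, ?_⟩
    obtain ⟨eD⟩ := IsKleinFour.nonempty_mulEquiv (G₁ := (Q : Subgroup (G ⧸ Subgroup.center G)))
      (G₂ := DihedralGroup 2)
    have hd : GWDihedral (G ⧸ Subgroup.center G) := ⟨Q, 2, le_rfl, ⟨eD⟩⟩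
    rcases hmodel (hevenP 0 (by rw [hQ4]; norm_num)) hd with ⟨F, hF, hFt, hodd, -, he⟩ | ⟨⟨e⟩⟩
    · exact Or.inr (Or.inr ⟨F, hF, hFt, hodd, he⟩)
    · exfalso
      have h2520 : Nat.card (G ⧸ Subgroup.center G) = 2520 := by
        rw [Nat.card_congr e.toEquiv, nat_card_alternatingGroup, Nat.card_eq_fintype_card, Fintype.card_fin]
        rfl
      obtain ⟨K, hK⟩ := Sylow.exists_subgroup_card_pow_prime (G := G ⧸ Subgroup.center G) 2 (n := 3)
        (by rw [h2520]; norm_num)
      obtain ⟨T, hT⟩ := (IsPGroup.of_card hK).exists_le_sylow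
      have := Subgroup.card_le_of_le hT
      rw [hK, Nat.card_congr (Sylow.equiv T Q).toEquiv, hQ4] at this
      norm_num at this
  · -- the Sylow subgroup maps isomorphically
    have hinj : Function.Injective (π.comp (P : Subgroup G).subtype) := by
      rw [injective_iff_map_eq_one]
      intro x hx
      rcases h.central_mem ((hπker _).mp hx) x.2 with e | e
      · exact Subtype.ext e
      · exact absurd (e ▸ (hπker _).mp hx) hzc
    let eP : (P : Subgroup G) ≃* (Q : Subgroup (G ⧸ Subgroup.center G)) :=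
      (MonoidHom.ofInjective hinj).trans (MulEquiv.subgroupCongr (by
        rw [MonoidHom.range_comp, Subgroup.range_subtype, hQ]))
    have hQna : ¬ IsMulCommutative (Q : Subgroup (G ⧸ Subgroup.center G)) := fun hQc =>
      hna ⟨⟨fun a b => eP.injective (by rw [map_mul, map_mul]; exact hQc.1.comm _ _)⟩⟩
    have hQidx : (Subgroup.center (Q : Subgroup (G ⧸ Subgroup.center G))).index = 4 := by
      rw [← hidx, ← Subgroup.index_map_equiv (Subgroup.center (P : Subgroup G)) eP]
      congr 1
      ext y
      obtain ⟨x, rfl⟩ := eP.surjective y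
      constructor
      · intro hy
        exact ⟨x, Subgroup.mem_center_iff.mpr fun g => eP.injective (by
          rw [map_mul, map_mul]; exact Subgroup.mem_center_iff.mp hy (eP g)), rfl⟩
      · rintro ⟨x', hx', e'⟩
        rw [← e']
        refine Subgroup.mem_center_iff.mpr fun g => ?_
        obtain ⟨g', rfl⟩ := eP.surjective g
        show eP g' * eP x' = eP x' * eP g'
        rw [← map_mul, ← map_mul, Subgroup.mem_center_iff.mp hx' g']
    obtain ⟨hQ8, ⟨eD⟩⟩ := dihedral_eight hX Q hQna hQidx
    refine ⟨(Nat.card_congr eP.toEquiv).trans hQ8, ?_⟩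
    have hd : GWDihedral (G ⧸ Subgroup.center G) := ⟨Q, 4, by norm_num, ⟨eD⟩⟩
    rcases hmodel (hevenP 1 (by rw [hQ8]; norm_num)) hd with ⟨F, hF, hFt, hodd, -, he⟩ | ⟨⟨e⟩⟩
    · exact Or.inr (Or.inr ⟨F, hF, hFt, hodd, he⟩)
    · have h6 := card_center_alt_seven e
      have hodd : ¬ 2 ∣ Nat.card (Subgroup.center G) := by
        intro h2
        obtain ⟨c, hc⟩ := exists_prime_orderOf_dvd_card' 2 h2
        rw [← Subgroup.orderOf_coe] at hc
        have hcN : (c : G) ∈ Subgroup.normalizer ((P : Subgroup G) : Set G) := Subgroup.mem_normalizer_iff.mpr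
          fun w => by rw [← Subgroup.mem_center_iff.mp c.2 w, mul_inv_cancel_right]
        have hcP := CfsgLib.TransferApps.mem_sylow_of_mem_normalizer P hcN
          ⟨1, by rw [pow_one, ← hc, pow_orderOf_eq_one]⟩
        rcases h.central_mem c.2 hcP with e' | e'
        · rw [e', orderOf_one] at hc; norm_num at hc
        · exact hzc (e' ▸ c.2)
      have hle := Nat.le_of_dvd (by norm_num) h6
      generalize hm : Nat.card (Subgroup.center G) = m at h6 hodd hle
      have : m = 1 ∨ m = 3 := by interval_cases m <;> omega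
      rcases this with rfl | rfl
      · left
        exact ⟨(QuotientGroup.quotientBot.symm.trans (QuotientGroup.quotientMulEquivOfEq
          (Subgroup.card_eq_one.mp hm).symm)).trans e⟩
      · exact Or.inr (Or.inl ⟨rfl, ⟨e⟩⟩)

end CfsgLib.CentralFour
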