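import Cfsg.Agent.Lib.GW.Conseq.CentralFour.Fusion
import Cfsg.Agent.Lib.GW.Conseq.CentralFour.Pair
import Cfsg.Agent.Lib.ZStar.Main
import Cfsg.Agent.Lib.Fusion.RankTwoSimple
import Cfsg.Agent.Lib.ExtraspecialTwo

/-!
A simple group with a non-abelian Sylow 2-subgroup with centre of index four has dihedral Sylow 2-subgroups of
order eight.
-/

set_option autoImplicit false
set_option linter.unusedSectionVars false

namespace CfsgLib.CentralFour

open Cfsg

universe u

variable {X : Type u} [Group X] [Finite X] {P : Sylow 2 X} {Z : Subgroup X} {z : X}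

namespace Quad

theorem arm_sq (h : Quad (P : Subgroup X) Z z) {y : X} (hy : Arm P Z z y) : y * y = 1 := by
  obtain ⟨g, hg⟩ := isConj_iff.mp hy.2.2.1
  rw [← hg, conj_mul, h.z_sq, mul_one, mul_inv_cancel]

theorem z_not_sq (h : Quad (P : Subgroup X) Z z) {y : X} (hy : Arm P Z z y) {c : X} (hc : c ∈ Z) : c * c ≠ z := by
  obtain ⟨-, -, -, -, B, -, hzB, hdec, -⟩ := hy
  intro e
  rcases hdec c hc with hb | hb
  · exact hzB (e ▸ B.mul_mem hb hb)
  · refine hzB ?_
    have h1 := B.mul_mem hb hb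
    rwa [show z * c * (z * c) = z * (c * z) * c by group, h.z_comm (h.le hc), ← mul_assoc z z c, h.z_sq,
      one_mul, e] at h1

theorem z_mul_notMem (h : Quad (P : Subgroup X) Z z) {y : X} (hy : y ∉ Z) : z * y ∉ Z := fun e => hy (by
  have := Z.mul_mem (Z.inv_mem h.z_mem) e
  rwa [inv_mul_cancel_left] at this)

theorem arm_mul_z (h : Quad (P : Subgroup X) Z z) {y : X} (hy : Arm P Z z y) : Arm P Z z (z * y) := by
  obtain ⟨hP, hZ, h1, h2, B, hBZ, hzB, hdec, hB⟩ := hy
  refine ⟨Subgroup.mul_mem _ (h.le h.z_mem) hP, h.z_mul_notMem hZ, h2,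
    by rwa [← mul_assoc, h.z_sq, one_mul], B, hBZ, hzB, hdec, fun b hb => ⟨(hB b hb).2, ?_⟩⟩
  rw [← mul_assoc z z y, h.z_sq, one_mul]
  exact (hB b hb).1

/-- Every element of the coset of an arm is conjugate to an element of the centre. -/
theorem arm_fuse (h : Quad (P : Subgroup X) Z z) {y c : X} (hy : Arm P Z z y) (hc : c ∈ Z) :
    ∃ c' ∈ Z, IsConj (y * c) c' ∧ (c' = z * c ∨ c' = c) ∧ (c' = z * c → IsConj (y * c) (z * c)) ∧
      (c' = c → IsConj (y * (z * c)) c) := by
  obtain ⟨hP, hZ, h1, h2, B, hBZ, hzB, hdec, hB⟩ := hy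
  rcases hdec c hc with hb | hb
  · exact ⟨z * c, Z.mul_mem h.z_mem hc, (hB c hb).1, Or.inl rfl, fun _ => (hB c hb).1, fun e =>
      absurd (mul_eq_right.mp e) h.z_ne⟩
  · refine ⟨c, hc, ?_, Or.inr rfl, fun e => absurd (mul_eq_right.mp e.symm) h.z_ne, fun _ => ?_⟩
    · have := (hB _ hb).2
      rwa [show z * y * (z * c) = z * (y * z) * c by group, h.z_comm hP, ← mul_assoc z z y, h.z_sq, one_mul,
        ← mul_assoc z z c, h.z_sq, one_mul] at this
    · have := (hB _ hb).1
      rwa [← mul_assoc z z c, h.z_sq, one_mul] at this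

/-- The conjugates of `z` in the coset of an arm. -/
theorem coset_eq (h : Quad (P : Subgroup X) Z z) {y y' : X} (hy : Arm P Z z y) (hy' : IsConj z y')
    (hc : y⁻¹ * y' ∈ Z) : y' = y ∨ y' = z * y := by
  obtain ⟨hP, hZ, h1, h2, B, hBZ, hzB, hdec, hB⟩ := hy
  set c := y⁻¹ * y' with hcd
  have hy'e : y' = y * c := by rw [hcd, mul_inv_cancel_left]
  rcases hdec c hc with hb | hb
  · have e : z * c = z := h.class_center (Z.mul_mem h.z_mem hc) (hy'.trans (hy'e ▸ (hB c hb).1))
    exact Or.inl (by rw [hy'e, mul_eq_left.mp e, mul_one])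
  · have e1 : y' = z * y * (z * c) := by
      rw [show z * y * (z * c) = z * (y * z) * c by group, h.z_comm hP, ← mul_assoc z z y, h.z_sq, one_mul, hy'e]
    have e : z * (z * c) = z := h.class_center (Z.mul_mem h.z_mem (hBZ hb)) (hy'.trans (e1 ▸ (hB _ hb).2))
    exact Or.inr (by rw [e1, mul_eq_left.mp e, mul_one])

theorem arm_of_class (h : Quad (P : Subgroup X) Z z) {y : X} (hy : y ∈ (P : Subgroup X)) (hy' : y ∉ Z)
    (hc : IsConj z y) : Arm P Z z y := by
  obtain ⟨y₀, harm, hy₀⟩ := h.exists_arm hy hy' h.z_mem hc.symm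
  have := h.coset_eq harm hc (by simpa using Z.inv_mem hy₀)
  rcases this with e | e
  · exact e ▸ harm
  · exact e ▸ h.arm_mul_z harm

/-- There are at most two arms. -/
theorem no_three (h : Quad (P : Subgroup X) Z z) {a b c : X} (ha : Arm P Z z a) (hb : Arm P Z z b)
    (hc : Arm P Z z c) (hab : a⁻¹ * b ∉ Z) (hac : a⁻¹ * c ∉ Z) (hbc : b⁻¹ * c ∉ Z) : False := by
  rcases h.four a ha.1 b hb.1 ha.2.1 hb.2.1 hab c hc.1 with h1 | h1 | h1 | h1
  · exact hc.2.1 h1
  · exact hac h1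
  · exact hbc h1
  set t := (a * b)⁻¹ * c with ht
  have hct : c = a * b * t := by rw [ht, mul_inv_cancel_left]
  have e1 : a * b * (a * b) = z := by
    have e2 := h.conj_eq ha.1 hb.1 ha.2.1 hb.2.1 hab
    rw [inv_eq_of_mul_eq_one_left (h.arm_sq ha)] at e2
    calc a * b * (a * b) = a * b * a * b := by group
      _ = z := by rw [e2, mul_assoc, h.arm_sq hb, mul_one]
  have e3 : z * (t * t) = 1 := by
    have habP : a * b ∈ (P : Subgroup X) := Subgroup.mul_mem _ ha.1 hb.1
    rw [← e1, ← h.arm_sq hc, hct]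
    calc a * b * (a * b) * (t * t) = a * b * ((a * b) * t) * t := by group
      _ = a * b * (t * (a * b)) * t := by rw [h.central _ habP t h1]
      _ = a * b * t * (a * b * t) := by group
  exact h.z_not_sq ha h1 (by rw [← inv_eq_of_mul_eq_one_right e3, h.z_inv])

end Quad

/-- Two representatives of the cosets of arms. -/
structure Two (P : Sylow 2 X) (Z : Subgroup X) (z a b : X) : Prop where
  quad : Quad (P : Subgroup X) Z z
  armA : Quad.Arm P Z z a
  armB : Quad.Arm P Z z b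
  dist : b = a ∨ a⁻¹ * b ∉ Z
  all : ∀ y, Quad.Arm P Z z y → y = a ∨ y = z * a ∨ y = b ∨ y = z * b

namespace Two

variable {a b : X}

/-- The subgroup generated by the arms. -/
def D (_h : Two P Z z a b) : Subgroup X := Subgroup.closure {z, a, b}

theorem D_le (h : Two P Z z a b) : h.D ≤ (P : Subgroup X) := by
  rw [D, Subgroup.closure_le]
  rintro x (rfl | rfl | rfl)
  exacts [h.quad.le h.quad.z_mem, h.armA.1, h.armB.1]

theorem z_mem (h : Two P Z z a b) : z ∈ h.D := Subgroup.subset_closure (Or.inl rfl)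
theorem a_mem (h : Two P Z z a b) : a ∈ h.D := Subgroup.subset_closure (Or.inr (Or.inl rfl))
theorem b_mem (h : Two P Z z a b) : b ∈ h.D := Subgroup.subset_closure (Or.inr (Or.inr rfl))

theorem mem_D_cases (h : Two P Z z a b) {v : X} (hv : v ∈ h.D) :
    ∃ r, (r = 1 ∨ r = a ∨ r = b ∨ r = a * b) ∧ (v = r ∨ v = z * r) := by
  have hz : ∀ x ∈ (P : Subgroup X), x * z = z * x := fun x hx => h.quad.z_comm hx
  have haa := h.quad.arm_sq h.armA
  have hbb := h.quad.arm_sq h.armB
  have hba : b * a = a * b ∨ b * a = z * (a * b) := by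
    rcases h.quad.comm b h.armB.1 a h.armA.1 with e | e
    · exact Or.inl (mul_inv_eq_iff_eq_mul.mp e)
    · exact Or.inr ((mul_inv_eq_iff_eq_mul.mp e).trans (mul_assoc _ _ _))
  have hzz : ∀ x, z * (z * x) = x := fun x => by rw [← mul_assoc, h.quad.z_sq, one_mul]
  -- left multiplication by a generator permutes the eight products
  have step : ∀ g ∈ ({z, a, b} : Set X), ∀ r, (r = 1 ∨ r = a ∨ r = b ∨ r = a * b) →
      ∃ r', (r' = 1 ∨ r' = a ∨ r' = b ∨ r' = a * b) ∧ (g * r = r' ∨ g * r = z * r') := by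
    intro g hg r hr
    rcases hg with rfl | rfl | rfl
    · exact ⟨r, hr, Or.inr rfl⟩
    · rcases hr with rfl | rfl | rfl | rfl
      · exact ⟨g, Or.inr (Or.inl rfl), Or.inl (mul_one _)⟩
      · exact ⟨1, Or.inl rfl, Or.inl haa⟩
      · exact ⟨_, Or.inr (Or.inr (Or.inr rfl)), Or.inl rfl⟩
      · exact ⟨b, Or.inr (Or.inr (Or.inl rfl)), Or.inl (by rw [← mul_assoc, haa, one_mul])⟩
    · rcases hr with rfl | rfl | rfl | rfl
      · exact ⟨g, Or.inr (Or.inr (Or.inl rfl)), Or.inl (mul_one _)⟩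
      · exact ⟨_, Or.inr (Or.inr (Or.inr rfl)), hba⟩
      · exact ⟨1, Or.inl rfl, Or.inl hbb⟩
      · refine ⟨a, Or.inr (Or.inl rfl), ?_⟩
        rcases hba with e | e
        · exact Or.inl (by rw [← mul_assoc, e, mul_assoc, hbb, mul_one])
        · exact Or.inr (by rw [← mul_assoc, e, mul_assoc z, mul_assoc a, hbb, mul_one])
  have good : ∀ g ∈ ({z, a, b} : Set X), ∀ y, (∃ r, (r = 1 ∨ r = a ∨ r = b ∨ r = a * b) ∧ (y = r ∨ y = z * r)) →
      ∃ r, (r = 1 ∨ r = a ∨ r = b ∨ r = a * b) ∧ (g * y = r ∨ g * y = z * r) := by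
    rintro g hg y ⟨r, hr, hy⟩
    obtain ⟨r', hr', e⟩ := step g hg r hr
    refine ⟨r', hr', ?_⟩
    have hgP : g ∈ (P : Subgroup X) := h.D_le (Subgroup.subset_closure hg)
    rcases hy with rfl | rfl
    · exact e
    · rw [← mul_assoc, hz g hgP, mul_assoc]
      rcases e with e | e <;> rw [e]
      · exact Or.inr rfl
      · exact Or.inl (hzz r')
  induction hv using Subgroup.closure_induction_left with
  | one => exact ⟨1, Or.inl rfl, Or.inl rfl⟩
  | mul_left g hg y _ ih => exact good g hg y ih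
  | inv_mul_cancel g hg y _ ih =>
    have : g⁻¹ = g := by
      rcases hg with rfl | rfl | rfl
      exacts [h.quad.z_inv, inv_eq_of_mul_eq_one_left haa, inv_eq_of_mul_eq_one_left hbb]
    rw [this]
    exact good g hg y ih

theorem D_inter (h : Two P Z z a b) {v : X} (hv : v ∈ h.D) (hvZ : v ∈ Z) : v = 1 ∨ v = z := by
  obtain ⟨r, hr, hvr⟩ := h.mem_D_cases hv
  have hrZ : r ∈ Z := by
    rcases hvr with e | e
    · rwa [← e]
    · have := Z.mul_mem (Z.inv_mem h.quad.z_mem) hvZ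
      rwa [e, inv_mul_cancel_left] at this
  have hr1 : r = 1 := by
    rcases hr with e | e | e | e
    · exact e
    · exact absurd (e ▸ hrZ) h.armA.2.1
    · exact absurd (e ▸ hrZ) h.armB.2.1
    · rcases h.dist with e' | e'
      · rw [e, e', h.quad.arm_sq h.armA]
      · exact absurd (e ▸ hrZ) (h.quad.mul_notMem h.armA.1 e')
  subst hr1
  simpa using hvr

/-- A conjugate of `z` in `P` lies in `D`. -/
theorem class_mem (h : Two P Z z a b) {v : X} (hv : v ∈ (P : Subgroup X)) (hc : IsConj z v) : v ∈ h.D := by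
  by_cases hvZ : v ∈ Z
  · exact h.quad.class_center hvZ hc ▸ h.z_mem
  · rcases h.all v (h.quad.arm_of_class hv hvZ hc) with rfl | rfl | rfl | rfl
    exacts [h.a_mem, h.D.mul_mem h.z_mem h.a_mem, h.b_mem, h.D.mul_mem h.z_mem h.b_mem]

/-- The element of order four: not fused into the centre. -/
theorem d_not_fused (h : Two P Z z a b) (hab : a⁻¹ * b ∉ Z) {v c : X} (hv : v ∈ (P : Subgroup X))
    (hvd : (a * b)⁻¹ * v ∈ Z) (hc : c ∈ Z) : ¬ IsConj v c := by
  intro hvc
  have hab' : a * b ∉ Z := h.quad.mul_notMem h.armA.1 hab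
  obtain ⟨y, hy, hvy⟩ := h.quad.exists_arm hv (h.quad.notMem_of_coset hab' hvd) hc hvc
  have hdy : (a * b)⁻¹ * y ∈ Z := by
    have := Z.mul_mem hvd hvy
    rwa [show (a * b)⁻¹ * v * (v⁻¹ * y) = (a * b)⁻¹ * y by group] at this
  refine h.quad.no_three h.armA h.armB hy hab (fun e => h.armB.2.1 ?_) (fun e => h.armA.2.1 ?_)
  · have := Z.mul_mem e (Z.inv_mem hdy)
    rwa [show a⁻¹ * y * ((a * b)⁻¹ * y)⁻¹ = b by group] at this
  · have := Z.mul_mem e (Z.inv_mem hdy)
    rw [show b⁻¹ * y * ((a * b)⁻¹ * y)⁻¹ = b⁻¹ * a * b by group] at this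
    have h2 := h.quad.conj_mem_Z h.armB.1 this
    rw [show b * (b⁻¹ * a * b) * b⁻¹ = a by group] at h2
    rw [h2]; exact this

theorem d_sq (h : Two P Z z a b) (hab : a⁻¹ * b ∉ Z) : a * b * (a * b) = z := by
  have e2 := h.quad.conj_eq h.armA.1 h.armB.1 h.armA.2.1 h.armB.2.1 hab
  rw [inv_eq_of_mul_eq_one_left (h.quad.arm_sq h.armA)] at e2
  calc a * b * (a * b) = a * b * a * b := by group
    _ = z := by rw [e2, mul_assoc, h.quad.arm_sq h.armB, mul_one]

/-- The coset of an arm: outside `Z`, squares are squares of central elements. -/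
theorem sq_ne (h : Two P Z z a b) {y v : X} (hy : Quad.Arm P Z z y) (hyv : y⁻¹ * v ∈ Z) : v * v ≠ z := by
  intro e
  set c := y⁻¹ * v with hc
  refine h.quad.z_not_sq hy hyv ?_
  have hv : v = y * c := by rw [hc, mul_inv_cancel_left]
  rw [← e, hv, show y * c * (y * c) = y * (c * y) * c by group, ← h.quad.central y hy.1 c hyv,
    ← mul_assoc y y c, h.quad.arm_sq hy, one_mul]

theorem strongly_closed (h : Two P Z z a b) : IsStronglyClosed h.D (P : Subgroup X) := by
  haveI : Fact (Nat.Prime 2) := ⟨Nat.prime_two⟩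
  refine ⟨h.D_le, fun x hx g hg => ?_⟩
  have hcl : ∀ {w : X}, IsConj z w → IsConj z (g * w * g⁻¹) := fun hw => hw.trans (isConj_iff.mpr ⟨g, rfl⟩)
  obtain ⟨r, hr, hxr⟩ := h.mem_D_cases hx
  by_cases hclass : x = 1 ∨ IsConj z x
  · rcases hclass with rfl | hclass
    · simp
    · exact h.class_mem hg (hcl hclass)
  push Not at hclass
  obtain ⟨hx1, hxc⟩ := hclass
  -- only the elements of order four remain
  have hr4 : r = a * b ∧ a⁻¹ * b ∉ Z := by
    have hne : r ≠ 1 := fun e => by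
      rcases hxr with e' | e'
      · exact hx1 (e'.trans e)
      · exact hxc (by rw [e', e, mul_one])
    rcases hr with e | e | e | e
    · exact absurd e hne
    · exact absurd (by rcases hxr with e' | e' <;> rw [e', e]; exacts [h.armA.2.2.1, h.armA.2.2.2.1]) hxc
    · exact absurd (by rcases hxr with e' | e' <;> rw [e', e]; exacts [h.armB.2.2.1, h.armB.2.2.2.1]) hxc
    · refine ⟨e, h.dist.resolve_left fun e' => hne ?_⟩
      rw [e, e', h.quad.arm_sq h.armA]
  obtain ⟨rfl, hab⟩ := hr4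
  set d := a * b with hd
  have hdP : d ∈ (P : Subgroup X) := Subgroup.mul_mem _ h.armA.1 h.armB.1
  have hxP := h.D_le hx
  have hxd : d⁻¹ * x ∈ Z ∧ x * x = z := by
    rcases hxr with rfl | rfl
    · exact ⟨by rw [inv_mul_cancel]; exact Z.one_mem, h.d_sq hab⟩
    · refine ⟨by rw [← h.quad.z_comm hdP, inv_mul_cancel_left]; exact h.quad.z_mem, ?_⟩
      rw [show z * d * (z * d) = z * (d * z) * d by group, h.quad.z_comm hdP, ← mul_assoc z z d, h.quad.z_sq,
        one_mul, hd, h.d_sq hab]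
  set v := g * x * g⁻¹ with hv
  have hvv : v * v = z := by
    have h1 : IsConj z (v * v) := isConj_iff.mpr ⟨g, by rw [hv, conj_mul, hxd.2]⟩
    exact h.quad.class_center (h.quad.sq_mem v hg) h1
  have hxv : IsConj x v := isConj_iff.mpr ⟨g, rfl⟩
  rcases h.quad.four a h.armA.1 b h.armB.1 h.armA.2.1 h.armB.2.1 hab v hg with hvz | hvz | hvz | hvz
  · exact absurd hxv (h.d_not_fused hab hxP hxd.1 hvz)
  · exact absurd hvv (h.sq_ne h.armA hvz)
  · exact absurd hvv (h.sq_ne h.armB hvz)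
  -- `v` lies in the coset of `d`; both centralisers are Sylow in the centraliser of `v`
  have hab' : a * b ∉ Z := h.quad.mul_notMem h.armA.1 hab
  set A : Subgroup X := (P : Subgroup X) ⊓ Subgroup.centralizer ({d} : Set X)
  have hmemA : ∀ {w : X}, w ∈ A ↔ w ∈ (P : Subgroup X) ∧ d * w = w * d := Quad.mem_cent_iff
  have hAdec : ∀ {w : X}, w ∈ A → w ∈ Z ∨ d⁻¹ * w ∈ Z := fun hw =>
    h.quad.mem_of_comm hdP (hmemA.mp hw).1 hab' (hmemA.mp hw).2
  have hcoset : ∀ {w : X}, d⁻¹ * w ∈ Z → d * w = w * d := fun {w} hw => by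
    have := (Commute.refl d).mul_right (show Commute d (d⁻¹ * w) from h.quad.central d hdP _ hw)
    rwa [mul_inv_cancel_left] at this
  have hAx : ∀ {w : X}, w ∈ A → x * w = w * x := fun {w} hw =>
    (h.quad.comm_of_comm hdP hxP (hmemA.mp hw).1 hab' (hcoset hxd.1) (hmemA.mp hw).2)
  have hAv : ∀ {w : X}, w ∈ A → v * w = w * v := fun {w} hw =>
    (h.quad.comm_of_comm hdP hg (hmemA.mp hw).1 hab' (hcoset hvz) (hmemA.mp hw).2)
  have hAC : A ≤ Subgroup.centralizer ({v} : Set X) := fun w hw =>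
    Subgroup.mem_centralizer_singleton_iff.mpr (hAv hw).symm
  set C := Subgroup.centralizer ({v} : Set X)
  set A₁ : Subgroup X := A.map (MulAut.conj g).toMonoidHom
  have hA₁C : A₁ ≤ C := by
    rintro _ ⟨w, hw, rfl⟩
    refine Subgroup.mem_centralizer_singleton_iff.mpr ?_
    show g * w * g⁻¹ * (g * x * g⁻¹) = g * x * g⁻¹ * (g * w * g⁻¹)
    rw [conj_mul, conj_mul, hAx hw]
  have hA2 : IsPGroup 2 A := P.2.to_le inf_le_left
  obtain ⟨R, hR⟩ := (hA2.of_equiv (Subgroup.subgroupOfEquivOfLe hAC).symm).exists_le_sylow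
  obtain ⟨R₁, hR₁⟩ :=
    ((hA2.map (MulAut.conj g).toMonoidHom).of_equiv (Subgroup.subgroupOfEquivOfLe hA₁C).symm).exists_le_sylow
  -- no Sylow subgroup of `C(v)` is a Sylow subgroup of the group
  have hRle : ∀ S : Sylow 2 C, Nat.card S ≤ 2 * Nat.card Z := by
    intro S
    by_contra hS
    have hS2 : IsPGroup 2 ((S : Subgroup C).map C.subtype) := S.2.map _
    obtain ⟨T, hT⟩ := hS2.exists_le_sylow
    obtain ⟨k, hk⟩ := IsPGroup.iff_card.mp hS2
    obtain ⟨l, hl⟩ := IsPGroup.iff_card.mp (P.2.to_le h.quad.le)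
    rw [Subgroup.card_map_of_injective C.subtype_injective] at hk
    have hPS : Nat.card P ≤ Nat.card S := by
      rw [h.quad.card, hl]
      rw [hk, hl, ← pow_succ'] at hS
      rw [hk, show 4 * 2 ^ l = 2 ^ (l + 2) by ring]
      exact Nat.pow_le_pow_right (by norm_num) (by
        have := (Nat.pow_lt_pow_iff_right (show 1 < 2 by norm_num)).mp (not_le.mp hS)
        omega)
    have hSeq : (S : Subgroup C).map C.subtype = (T : Subgroup X) := Subgroup.eq_of_le_of_card_ge hT (by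
      rw [Subgroup.card_map_of_injective C.subtype_injective]
      exact (le_of_eq (Nat.card_congr (Sylow.equiv T P).toEquiv)).trans hPS)
    obtain ⟨k, hk⟩ := MulAction.exists_smul_eq X T P
    have hvT : v ∈ (T : Subgroup X) := by
      -- `v` is central in `C`, hence in every Sylow subgroup
      let v' : C := ⟨v, Subgroup.mem_centralizer_singleton_iff.mpr rfl⟩
      have hv'c : v' ∈ Subgroup.normalizer ((S : Subgroup C) : Set C) := Subgroup.mem_normalizer_iff.mpr fun w => by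
        have : v' * w = w * v' := Subtype.ext (Subgroup.mem_centralizer_singleton_iff.mp w.2).symm
        rw [this, mul_inv_cancel_right]
      rw [← hSeq]
      refine ⟨v', CfsgLib.TransferApps.mem_sylow_of_mem_normalizer S hv'c ⟨2, Subtype.ext ?_⟩, rfl⟩
      show v ^ 2 ^ 2 = 1
      rw [show (2 : ℕ) ^ 2 = 2 * 2 from rfl, pow_mul, pow_two v, hvv, pow_two, h.quad.z_sq]
    have hkv : k * v * k⁻¹ ∈ (P : Subgroup X) := by
      rw [← hk]; exact ⟨v, hvT, rfl⟩
    refine h.d_not_fused hab hg hvz (h.quad.mem_Z _ hkv fun p hp => ?_) (isConj_iff.mpr ⟨k, rfl⟩)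
    obtain ⟨w, hw, rfl⟩ : ∃ w ∈ (T : Subgroup X), k * w * k⁻¹ = p := by
      rw [← hk] at hp; obtain ⟨w, hw, e⟩ := hp; exact ⟨w, hw, e⟩
    rw [← hSeq] at hw
    obtain ⟨w', -, rfl⟩ := hw
    show k * v * k⁻¹ * (k * (w' : X) * k⁻¹) = k * (w' : X) * k⁻¹ * (k * v * k⁻¹)
    rw [conj_mul, conj_mul, Subgroup.mem_centralizer_singleton_iff.mp (show (w' : X) ∈ C from w'.2)]
  have hcardA : Nat.card A = 2 * Nat.card Z := h.quad.card_cent hdP hab'
  have hAR : A.subgroupOf C = (R : Subgroup C) := Subgroup.eq_of_le_of_card_ge hR (by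
    rw [Nat.card_congr (Subgroup.subgroupOfEquivOfLe hAC).toEquiv, hcardA]; exact hRle R)
  have hAR₁ : A₁.subgroupOf C = (R₁ : Subgroup C) := Subgroup.eq_of_le_of_card_ge hR₁ (by
    rw [Nat.card_congr (Subgroup.subgroupOfEquivOfLe hA₁C).toEquiv,
      Subgroup.card_map_of_injective (MulAut.conj g).injective, hcardA]; exact hRle R₁)
  obtain ⟨c, hc⟩ := MulAction.exists_smul_eq C R₁ R
  have hcv : (c : X) * v * (c : X)⁻¹ = v := by
    rw [Subgroup.mem_centralizer_singleton_iff.mp c.2, mul_inv_cancel_right]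
  set m := (c : X) * g with hm
  have hmx : m * x * m⁻¹ = v := by
    rw [hm, show (c : X) * g * x * ((c : X) * g)⁻¹ = (c : X) * (g * x * g⁻¹) * (c : X)⁻¹ by group, ← hv, hcv]
  have hmA : ∀ w ∈ A, m * w * m⁻¹ ∈ A := by
    intro w hw
    have h1 : (⟨g * w * g⁻¹, hA₁C ⟨w, hw, rfl⟩⟩ : C) ∈ (R₁ : Subgroup C) := by
      rw [← hAR₁]; exact ⟨w, hw, rfl⟩
    have h2 : c * ⟨g * w * g⁻¹, hA₁C ⟨w, hw, rfl⟩⟩ * c⁻¹ ∈ (R : Subgroup C) := by
      rw [← hc]; exact ⟨_, h1, rfl⟩
    rw [← hAR] at h2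
    have h3 : (c : X) * (g * w * g⁻¹) * (c : X)⁻¹ ∈ A := h2
    rwa [hm, show (c : X) * g * w * ((c : X) * g)⁻¹ = (c : X) * (g * w * g⁻¹) * (c : X)⁻¹ by group]
  -- an element normalising `A` fixes `z` and `Z`
  have hmZ : ∀ {m : X}, (∀ w ∈ A, m * w * m⁻¹ ∈ A) → ∀ t ∈ Z, m * t * m⁻¹ ∈ Z := by
    intro m hm t ht
    have htA : t ∈ A := hmemA.mpr ⟨h.quad.le ht, h.quad.central d hdP t ht⟩
    exact (hAdec (hm t htA)).resolve_right fun e =>
      h.d_not_fused hab (hmemA.mp (hm t htA)).1 e ht (isConj_iff.mpr ⟨m, rfl⟩).symm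
  have hmz : ∀ {m : X}, (∀ w ∈ A, m * w * m⁻¹ ∈ A) → m * z * m⁻¹ = z := fun {m} hm =>
    h.quad.class_center (hmZ hm z h.quad.z_mem) (isConj_iff.mpr ⟨m, rfl⟩)
  -- the group of these elements and the stability subgroup
  let H₀ : Submonoid X :=
    { carrier := {m | ∀ w ∈ A, m * w * m⁻¹ ∈ A}
      one_mem' := fun w hw => by simpa using hw
      mul_mem' := fun {m m'} hm hm' w hw => by
        rw [show m * m' * w * (m * m')⁻¹ = m * (m' * w * m'⁻¹) * m⁻¹ by group]
        exact hm _ (hm' w hw) }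
  let H : Subgroup X :=
    { H₀ with
      inv_mem' := fun {m} hm => by
        show m⁻¹ ∈ H₀
        rw [inv_eq_of_mul_eq_one_left (show m ^ (orderOf m - 1) * m = 1 by
          rw [← pow_succ, Nat.sub_add_cancel (orderOf_pos m), pow_orderOf_eq_one])]
        exact H₀.pow_mem hm _ }
  have hAP : ∀ p ∈ (P : Subgroup X), ∀ w ∈ A, p * w * p⁻¹ = w ∨ p * w * p⁻¹ = z * w := fun p hp w hw =>
    h.quad.comm p hp w (hmemA.mp hw).1
  have hzA : z ∈ A := hmemA.mpr ⟨h.quad.le h.quad.z_mem, h.quad.z_comm hdP⟩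
  have hPH : (P : Subgroup X) ≤ H := fun p hp w hw => by
    rcases hAP p hp w hw with e | e <;> rw [e]
    · exact hw
    · exact A.mul_mem hzA hw
  let K : Subgroup H :=
    { carrier := {k | ∀ w ∈ A, (k : X) * w * (k : X)⁻¹ = w ∨ (k : X) * w * (k : X)⁻¹ = z * w}
      one_mem' := fun w _ => Or.inl (by simp)
      mul_mem' := fun {k k'} hk hk' w hw => by
        rw [Subgroup.coe_mul,
          show (k : X) * k' * w * ((k : X) * k')⁻¹ = k * ((k' : X) * w * (k' : X)⁻¹) * (k : X)⁻¹ by group]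
        rcases hk' w hw with e | e <;> rw [e]
        · exact hk w hw
        · rw [show (k : X) * (z * w) * (k : X)⁻¹ = (k : X) * z * (k : X)⁻¹ * ((k : X) * w * (k : X)⁻¹) by group,
            hmz k.2]
          rcases hk w hw with e' | e' <;> rw [e']
          · exact Or.inr rfl
          · exact Or.inl (by rw [← mul_assoc, h.quad.z_sq, one_mul])
      inv_mem' := fun {k} hk w hw => by
        have hw' : (k : X)⁻¹ * w * k ∈ A := by
          have := (H.inv_mem k.2) w hw
          rwa [inv_inv] at this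
        rw [Subgroup.coe_inv, inv_inv]
        rcases hk _ hw' with e | e
        · exact Or.inl (by rw [← e]; group)
        · refine Or.inr ?_
          calc (k : X)⁻¹ * w * k = z * (z * ((k : X)⁻¹ * w * k)) := by rw [← mul_assoc, h.quad.z_sq, one_mul]
            _ = z * w := by rw [← e]; group }
  haveI : K.Normal := ⟨fun k hk q w hw => by
    have hw' : (q : X)⁻¹ * w * q ∈ A := by
      have := (H.inv_mem q.2) w hw
      rwa [inv_inv] at this
    rw [Subgroup.coe_mul, Subgroup.coe_mul, Subgroup.coe_inv,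
      show (q : X) * k * (q : X)⁻¹ * w * ((q : X) * k * (q : X)⁻¹)⁻¹ =
        q * ((k : X) * ((q : X)⁻¹ * w * q) * (k : X)⁻¹) * (q : X)⁻¹ by group]
    rcases hk _ hw' with e | e <;> rw [e]
    · exact Or.inl (by group)
    · refine Or.inr ?_
      rw [show (q : X) * (z * ((q : X)⁻¹ * w * q)) * (q : X)⁻¹ = (q : X) * z * (q : X)⁻¹ * w by group, hmz q.2]⟩
  have hPK : ((P.subtype hPH : Sylow 2 H) : Subgroup H) ≤ K := fun p hp w hw => hAP p hp w hw
  have htop := Sylow.normalizer_sup_eq_top' (P.subtype hPH) hPK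
  obtain ⟨n, hn, k, hk, hnk⟩ := Subgroup.mem_sup_of_normal_right.mp (htop.ge (Subgroup.mem_top ⟨m, hmA⟩))
  have hnN : (n : X) ∈ Subgroup.normalizer ((P : Subgroup X) : Set X) := Subgroup.mem_normalizer_iff.mpr fun w => by
    constructor
    · intro hw
      have := (Subgroup.mem_normalizer_iff.mp hn ⟨w, hPH hw⟩).mp hw
      exact this
    · intro hw
      have hwH : w ∈ H := by
        have := H.mul_mem (H.mul_mem (H.inv_mem n.2) (hPH hw)) n.2
        rwa [show (n : X)⁻¹ * ((n : X) * w * (n : X)⁻¹) * n = w by group] at this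
      exact (Subgroup.mem_normalizer_iff.mp hn ⟨w, hwH⟩).mpr hw
  have hmnk : (n : X) * k = m := congrArg Subtype.val hnk
  -- the normaliser of `P` permutes the arms, so preserves `D`
  have hnD : ∀ {y : X}, Quad.Arm P Z z y → (n : X) * y * (n : X)⁻¹ ∈ h.D := fun {y} hy =>
    h.class_mem ((Subgroup.mem_normalizer_iff.mp hnN y).mp hy.1) (hy.2.2.1.trans (isConj_iff.mpr ⟨_, rfl⟩))
  have hxA : x ∈ A := hmemA.mpr ⟨hxP, hcoset hxd.1⟩
  have hnx : ∀ w ∈ ({d, z * d} : Set X), (n : X) * w * (n : X)⁻¹ ∈ h.D := by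
    have hd' : (n : X) * d * (n : X)⁻¹ ∈ h.D := by
      rw [hd, ← conj_mul]; exact h.D.mul_mem (hnD h.armA) (hnD h.armB)
    rintro w (rfl | rfl)
    · exact hd'
    · rw [show (n : X) * (z * d) * (n : X)⁻¹ = (n : X) * z * (n : X)⁻¹ * ((n : X) * d * (n : X)⁻¹) by group,
        h.quad.fix_z hnN]
      exact h.D.mul_mem h.z_mem hd'
  rw [← hmx, ← hmnk, show (n : X) * k * x * ((n : X) * k)⁻¹ = n * ((k : X) * x * (k : X)⁻¹) * (n : X)⁻¹ by group]
  rcases hk x hxA with e | e <;> rw [e] <;> rcases hxr with rfl | rfl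
  · exact hnx d (Or.inl rfl)
  · exact hnx _ (Or.inr rfl)
  · exact hnx _ (Or.inr rfl)
  · rw [← mul_assoc z z d, h.quad.z_sq, one_mul]
    exact hnx d (Or.inl rfl)

end Two

/-- In a simple group there is an arm. -/
theorem exists_two_of_simple [IsSimpleGroup X] (h : Quad (P : Subgroup X) Z z) (hX : ¬ IsMulCommutative X)
    (heven : Even (Nat.card X)) : ∃ a b, Two P Z z a b := by
  classical
  obtain ⟨a, haP, haz, hac⟩ : ∃ a ∈ (P : Subgroup X), a ≠ z ∧ IsConj z a := by
    by_contra hno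
    push Not at hno
    have hzP := h.le h.z_mem
    have hord : orderOf z = 2 := orderOf_eq_prime (by rw [pow_two]; exact h.z_sq) h.z_ne
    have hZ := CfsgLib.ZStar.inZStar hord (CfsgLib.ZStar.isolated_of_sylow P hord hzP fun g hg => by
      by_contra hne
      exact hno _ hg hne (isConj_iff.mpr ⟨g, rfl⟩))
    have hbot : pPrimeCore 2 X = ⊥ := oddCore_eq_bot heven
    have hc : z ∈ Subgroup.center X := Subgroup.mem_center_iff.mpr fun g => by
      have := hZ g
      rw [hbot, Subgroup.mem_bot, mul_inv_eq_one, mul_inv_eq_iff_eq_mul] at this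
      exact this
    have hcb : Subgroup.center X = ⊥ := (IsSimpleGroup.eq_bot_or_eq_top_of_normal _ inferInstance).resolve_right
      fun e => hX ⟨⟨fun a b => (Subgroup.mem_center_iff.mp (e ▸ Subgroup.mem_top a) b).symm⟩⟩
    rw [hcb, Subgroup.mem_bot] at hc
    exact h.z_ne hc
  have haZ : a ∉ Z := fun e => haz (h.class_center e hac)
  have harm := h.arm_of_class haP haZ hac
  by_cases hb : ∃ b, Quad.Arm P Z z b ∧ a⁻¹ * b ∉ Z
  · obtain ⟨b, hb, hab⟩ := hb
    refine ⟨a, b, h, harm, hb, Or.inr hab, fun y hy => ?_⟩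
    by_cases h1 : a⁻¹ * y ∈ Z
    · rcases h.coset_eq harm hy.2.2.1 h1 with e | e
      · exact Or.inl e
      · exact Or.inr (Or.inl e)
    by_cases h2 : b⁻¹ * y ∈ Z
    · rcases h.coset_eq hb hy.2.2.1 h2 with e | e
      · exact Or.inr (Or.inr (Or.inl e))
      · exact Or.inr (Or.inr (Or.inr e))
    exact (h.no_three harm hb hy hab h1 h2).elim
  · push Not at hb
    refine ⟨a, a, h, harm, harm, Or.inl rfl, fun y hy => ?_⟩
    rcases h.coset_eq harm hy.2.2.1 (hb y hy) with e | e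
    · exact Or.inl e
    · exact Or.inr (Or.inl e)

/-- The centre has order two. -/
theorem Two.card_center [IsSimpleGroup X] {a b : X} (h : Two P Z z a b) (hX : ¬ IsMulCommutative X)
    (heven : Even (Nat.card X)) : ∀ c ∈ Z, c = 1 ∨ c = z := by
  classical
  haveI : Fact (Nat.Prime 2) := ⟨Nat.prime_two⟩
  obtain ⟨Ba, hBaZ, hzBa, hdeca, hBa⟩ := h.armA.2.2.2.2
  obtain ⟨Bb, hBbZ, hzBb, hdecb, hBb⟩ := h.armB.2.2.2.2
  have hzz : ∀ x, z * (z * x) = x := fun x => by rw [← mul_assoc, h.quad.z_sq, one_mul]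
  -- membership by fusion
  have hiff : ∀ {B : Subgroup X} {y : X}, y ∈ (P : Subgroup X) → (∀ c ∈ Z, c ∈ B ∨ z * c ∈ B) →
      (∀ b ∈ B, IsConj (y * b) (z * b) ∧ IsConj (z * y * b) (z * b)) →
      ∀ {c : X}, c ∈ Z → IsConj (y * c) (z * c) → c ∈ B := by
    intro B y hy hdec hB c hc hconj
    refine (hdec c hc).resolve_right fun hb => h.quad.not_conj hc ?_
    have := (hB _ hb).2
    rw [show z * y * (z * c) = z * (y * z) * c by group, h.quad.z_comm hy, ← mul_assoc z z y, h.quad.z_sq,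
      one_mul, hzz] at this
    exact this.symm.trans hconj
  set B₀ := Ba ⊓ Bb
  have hB₀Z : B₀ ≤ Z := inf_le_left.trans hBaZ
  -- `B₀` is invariant under the normaliser
  have hinv : ∀ n ∈ Subgroup.normalizer ((P : Subgroup X) : Set X), ∀ c ∈ B₀, n * c * n⁻¹ ∈ B₀ := by
    intro n hn c hc
    have key : ∀ y, Quad.Arm P Z z y → IsConj (n⁻¹ * y * n * c) (z * c) := by
      intro y hy
      have h1 : n⁻¹ * y * n ∈ (P : Subgroup X) := by
        simpa using (Subgroup.mem_normalizer_iff.mp (inv_mem hn) y).mp hy.1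
      have h2 : n⁻¹ * y * n ∉ Z := fun e => hy.2.1 (by
        have := h.quad.conj_mem_center hn e
        rwa [show n * (n⁻¹ * y * n) * n⁻¹ = y by group] at this)
      rcases h.all _ (h.quad.arm_of_class h1 h2 (hy.2.2.1.trans (isConj_iff.mpr ⟨n⁻¹, by rw [inv_inv]⟩))) with
        e | e | e | e <;> rw [e]
      exacts [(hBa c hc.1).1, (hBa c hc.1).2, (hBb c hc.2).1, (hBb c hc.2).2]
    have key2 : ∀ y, Quad.Arm P Z z y → IsConj (y * (n * c * n⁻¹)) (z * (n * c * n⁻¹)) := fun y hy => by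
      have e2 : n * (z * c) * n⁻¹ = z * (n * c * n⁻¹) := by
        conv_rhs => rw [← h.quad.fix_z hn]
        group
      rw [← e2]
      refine ((isConj_iff.mpr ⟨n, ?_⟩).symm.trans (key y hy)).trans (isConj_iff.mpr ⟨n, rfl⟩)
      group
    exact ⟨hiff h.armA.1 hdeca hBa (h.quad.conj_mem_center hn (hB₀Z hc)) (key2 a h.armA),
      hiff h.armB.1 hdecb hBb (h.quad.conj_mem_center hn (hB₀Z hc)) (key2 b h.armB)⟩
  have hclosed : IsStronglyClosed B₀ (P : Subgroup X) := ⟨hB₀Z.trans h.quad.le, fun c hc g hg => by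
    set v := g * c * g⁻¹
    have hcv : IsConj c v := isConj_iff.mpr ⟨g, rfl⟩
    by_cases hvZ : v ∈ Z
    · obtain ⟨n, hn, e⟩ := h.quad.burnside (hB₀Z hc) hvZ hcv
      exact e ▸ hinv n hn c hc
    exfalso
    obtain ⟨y, hy, hvy⟩ := h.quad.exists_arm hg hvZ (hB₀Z hc) hcv.symm
    have aux : ∀ {B : Subgroup X} {y : X}, B₀ ≤ B → y ∈ (P : Subgroup X) → z ∉ B →
        (∀ c ∈ Z, c ∈ B ∨ z * c ∈ B) → (∀ b ∈ B, IsConj (y * b) (z * b) ∧ IsConj (z * y * b) (z * b)) →
        y⁻¹ * v ∈ Z → False := by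
      intro B y hle hyP hzB hdec hB ht
      set t := y⁻¹ * v
      have hvt : v = y * t := (mul_inv_cancel_left y v).symm
      obtain ⟨t', ht'B, ht'Z, hconj⟩ : ∃ t' ∈ B, z * t' ∈ Z ∧ IsConj v (z * t') := by
        rcases hdec t ht with hb | hb
        · exact ⟨t, hb, Z.mul_mem h.quad.z_mem ht, hvt ▸ (hB t hb).1⟩
        · refine ⟨z * t, hb, by rw [hzz]; exact ht, ?_⟩
          have := (hB _ hb).2
          rw [show z * y * (z * t) = z * (y * z) * t by group, h.quad.z_comm hyP, ← mul_assoc z z y, h.quad.z_sq,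
            one_mul] at this
          rw [hvt]; exact this
      obtain ⟨n, hn, e⟩ := h.quad.burnside (hB₀Z hc) ht'Z (hcv.trans hconj)
      have h1 : z * t' ∈ B := hle (e ▸ hinv n hn c hc)
      exact hzB (by have := B.mul_mem h1 (B.inv_mem ht'B); rwa [mul_inv_cancel_right] at this)
    have hyv : y⁻¹ * v ∈ Z := by simpa using Z.inv_mem hvy
    have hzv : ∀ {w : X}, w ∈ (P : Subgroup X) → (z * w)⁻¹ * v ∈ Z → w⁻¹ * v ∈ Z := fun {w} hwP hw => by
      have e : z * ((z * w)⁻¹ * v) = w⁻¹ * v := by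
        rw [mul_inv_rev, h.quad.z_inv, h.quad.z_comm (Subgroup.inv_mem _ hwP), mul_assoc, hzz]
      exact e ▸ Z.mul_mem h.quad.z_mem hw
    rcases h.all y hy with rfl | rfl | rfl | rfl
    · exact aux inf_le_left h.armA.1 hzBa hdeca hBa hyv
    · exact aux inf_le_left h.armA.1 hzBa hdeca hBa (hzv h.armA.1 hyv)
    · exact aux inf_le_right h.armB.1 hzBb hdecb hBb hyv
    · exact aux inf_le_right h.armB.1 hzBb hdecb hBb (hzv h.armB.1 hyv)⟩
  have hB₀ : ∀ c ∈ B₀, c = 1 := by
    by_contra hne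
    push Not at hne
    obtain ⟨c₀, hc₀, hc₀1⟩ := hne
    refine pair_false hX heven P hclosed h.strongly_closed
      (fun c hc v hv => (h.quad.central v (h.D_le hv) c (hB₀Z hc)).symm) ?_
      (fun e => hc₀1 (Subgroup.mem_bot.mp (e ▸ hc₀)))
      (fun e => h.quad.z_ne (Subgroup.mem_bot.mp (e ▸ h.z_mem)))
    rw [Subgroup.eq_bot_iff_forall]
    rintro v ⟨hv₀, hvD⟩
    exact (h.D_inter hvD (hB₀Z hv₀)).resolve_right fun e => hzBa (e ▸ hv₀.1)
  by_cases hall : ∀ c ∈ Ba, c = 1
  · intro t ht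
    rcases hdeca t ht with hb | hb
    · exact Or.inl (hall t hb)
    · refine Or.inr ?_
      have := hall _ hb
      rw [← h.quad.z_inv]
      exact eq_inv_of_mul_eq_one_right this
  exfalso
  push Not at hall
  obtain ⟨c, hc, hc1⟩ := hall
  have hcb : z * c ∈ Bb := (hdecb c (hBaZ hc)).resolve_left fun e => hc1 (hB₀ c ⟨hc, e⟩)
  have hzc : ∀ {t : X}, t ∈ Z → z * t = t * z := fun ht => (h.quad.z_comm (h.quad.le ht)).symm
  have hcc : c * c = 1 := hB₀ _ ⟨Ba.mul_mem hc hc, by
    have := Bb.mul_mem hcb hcb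
    rwa [show z * c * (z * c) = z * (c * z) * c by group, ← hzc (hBaZ hc), hzz] at this⟩
  have hBa2 : ∀ t ∈ Ba, t = 1 ∨ t = c := fun t ht => by
    rcases hdecb t (hBaZ ht) with hb | hb
    · exact Or.inl (hB₀ t ⟨ht, hb⟩)
    · refine Or.inr ?_
      have := hB₀ (t * c) ⟨Ba.mul_mem ht hc, by
        have := Bb.mul_mem hb hcb
        rwa [show z * t * (z * c) = z * (t * z) * c by group, ← hzc (hBaZ ht), hzz] at this⟩
      rw [← inv_eq_of_mul_eq_one_left hcc]
      exact eq_inv_of_mul_eq_one_left this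
  have hab : a⁻¹ * b ∉ Z := h.dist.resolve_left fun e => hc1 (hB₀ c ⟨hc, by
    refine hiff h.armB.1 hdecb hBb (hBaZ hc) ?_
    rw [e]
    exact (hBa c hc).1⟩)
  have hcD : c ∉ h.D := fun e => (h.D_inter e (hBaZ hc)).elim hc1 fun e' => hzBa (e' ▸ hc)
  have hcP := h.quad.le (hBaZ hc)
  -- `D` has index two in `P`
  have hidx : (h.D.subgroupOf (P : Subgroup X)).index = 2 := by
    refine Subgroup.index_eq_two_iff.mpr ⟨⟨c, hcP⟩, fun w => ?_⟩
    have hZdec : ∀ t ∈ Z, t = 1 ∨ t = z ∨ t = c ∨ t = z * c := fun t ht => by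
      rcases hdeca t ht with hb | hb
      · rcases hBa2 t hb with e | e
        · exact Or.inl e
        · exact Or.inr (Or.inr (Or.inl e))
      · rcases hBa2 _ hb with e | e
        · exact Or.inr (Or.inl (by rw [← h.quad.z_inv]; exact eq_inv_of_mul_eq_one_right e))
        · exact Or.inr (Or.inr (Or.inr (by rw [← e, hzz])))
    have key : (w : X) ∈ h.D ∨ (w : X) * c ∈ h.D := by
      have hrep : ∀ r ∈ h.D, r⁻¹ * (w : X) ∈ Z → (w : X) ∈ h.D ∨ (w : X) * c ∈ h.D := fun r hr ht => by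
        have e : (w : X) = r * (r⁻¹ * w) := (mul_inv_cancel_left _ _).symm
        rcases hZdec _ ht with e' | e' | e' | e' <;> rw [e, e']
        · exact Or.inl (h.D.mul_mem hr h.D.one_mem)
        · exact Or.inl (h.D.mul_mem hr h.z_mem)
        · exact Or.inr (by rw [mul_assoc, hcc, mul_one]; exact hr)
        · exact Or.inr (by rw [mul_assoc, mul_assoc z c c, hcc, mul_one]; exact h.D.mul_mem hr h.z_mem)
      rcases h.quad.four a h.armA.1 b h.armB.1 h.armA.2.1 h.armB.2.1 hab w w.2 with e | e | e | e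
      · exact hrep 1 h.D.one_mem (by simpa using e)
      · exact hrep a h.a_mem e
      · exact hrep b h.b_mem e
      · exact hrep _ (h.D.mul_mem h.a_mem h.b_mem) e
    have hnot : ¬ ((w : X) ∈ h.D ∧ (w : X) * c ∈ h.D) := fun ⟨h1, h2⟩ => hcD (by
      simpa using h.D.mul_mem (h.D.inv_mem h1) h2)
    simp only [xor_iff_not_iff, Subgroup.mem_subgroupOf, Subgroup.coe_mul]
    tauto
  have hm : h.D.index = 2 * (P : Subgroup X).index := by
    rw [← Subgroup.relIndex_mul_index h.D_le, Subgroup.relIndex, hidx]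
  have hodd : Odd (P : Subgroup X).index := by
    rw [Nat.odd_iff, ← Nat.two_dvd_ne_zero]; exact P.not_dvd_index
  have hno : ∀ g : X, g⁻¹ * c * g ∉ h.D := fun g hg => by
    -- the involution `c` has no conjugate in `D`
    set v := g⁻¹ * c * g
    have hvc : IsConj v c := isConj_iff.mpr ⟨g, by simp only [v]; group⟩
    have hv2 : v * v = 1 := by
      have : v * v = g⁻¹ * (c * c) * g := by simp only [v]; group
      rw [this, hcc, mul_one, inv_mul_cancel]
    have hnz : ¬ IsConj z v := fun hzv => hzBa (by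
      have := h.quad.class_center (hBaZ hc) (hzv.trans hvc)
      rwa [this] at hc)
    obtain ⟨r, hr, hvr⟩ := h.mem_D_cases hg
    rcases hr with rfl | rfl | rfl | rfl
    · rcases hvr with e | e
      · obtain ⟨q, hq⟩ := isConj_iff.mp hvc
        rw [e, mul_one, mul_inv_cancel] at hq
        exact hc1 hq.symm
      · exact hnz (by rw [e, mul_one])
    · rcases hvr with e | e <;> rw [e] at hnz
      exacts [hnz h.armA.2.2.1, hnz h.armA.2.2.2.1]
    · rcases hvr with e | e <;> rw [e] at hnz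
      exacts [hnz h.armB.2.2.1, hnz h.armB.2.2.2.1]
    · have hdd := h.d_sq hab
      have habP : a * b ∈ (P : Subgroup X) := Subgroup.mul_mem _ h.armA.1 h.armB.1
      rcases hvr with e | e
      · rw [e, hdd] at hv2
        exact h.quad.z_ne hv2
      · rw [e, show z * (a * b) * (z * (a * b)) = z * (a * b * z) * (a * b) by group, h.quad.z_comm habP,
          hzz, hdd] at hv2
        exact h.quad.z_ne hv2
  obtain ⟨K, hK, hK2⟩ := RankTwoSimple.exists_index_two h.D hm hodd hcc hno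
  rcases IsSimpleGroup.eq_bot_or_eq_top_of_normal K hK with e | e
  · rw [e, Subgroup.index_bot] at hK2
    have h4 : 4 ≤ Nat.card X := by
      refine le_trans ?_ (Subgroup.card_le_card_group (P : Subgroup X))
      rw [h.quad.card]
      exact Nat.le_mul_of_pos_right _ Nat.card_pos
    omega
  · rw [e, Subgroup.index_top] at hK2; omega

/-- A simple group with a non-abelian Sylow 2-subgroup having a centre of index four: the Sylow 2-subgroups are
dihedral of order eight. -/
theorem dihedral_eight [IsSimpleGroup X] (hX : ¬ IsMulCommutative X) (P : Sylow 2 X)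
    (hna : ¬ IsMulCommutative (P : Subgroup X)) (hidx : (Subgroup.center (P : Subgroup X)).index = 4) :
    Nat.card P = 8 ∧ Nonempty ((P : Subgroup X) ≃* DihedralGroup 4) := by
  classical
  haveI : Fact (Nat.Prime 2) := ⟨Nat.prime_two⟩
  obtain ⟨z, h⟩ := exists_quad (P : Subgroup X) hna hidx
  set Z := (Subgroup.center (P : Subgroup X)).map (P : Subgroup X).subtype
  have heven : Even (Nat.card X) := by
    rw [even_iff_two_dvd]
    exact Dvd.dvd.trans (by rw [h.card]; exact dvd_mul_of_dvd_left (by norm_num) _)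
      (P : Subgroup X).card_subgroup_dvd_card
  obtain ⟨a, b, ht⟩ := exists_two_of_simple h hX heven
  have hZ2 := ht.card_center hX heven
  have hcard : Nat.card Z = 2 :=
    (Nat.card_eq_two_iff' (1 : Z)).mpr ⟨⟨z, h.z_mem⟩, fun e => h.z_ne (congrArg Subtype.val e), fun y hy =>
      Subtype.ext ((hZ2 y y.2).resolve_left fun e => hy (Subtype.ext e))⟩
  have hP8 : Nat.card P = 8 := by rw [h.card, hcard]
  refine ⟨hP8, ?_⟩
  -- a second involution
  have haa := h.arm_sq ht.armA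
  obtain ⟨w₀, hw₀, hw₀Z, haw₀⟩ := h.exists_two ht.armA.1 ht.armA.2.1
  obtain ⟨w, hw, hwZ, haw, hww⟩ : ∃ w ∈ (P : Subgroup X), w ∉ Z ∧ a⁻¹ * w ∉ Z ∧ w * w = 1 := by
    rcases hZ2 _ (h.sq_mem w₀ hw₀) with e | e
    · exact ⟨w₀, hw₀, hw₀Z, haw₀, e⟩
    · refine ⟨a * w₀, Subgroup.mul_mem _ ht.armA.1 hw₀, h.mul_notMem ht.armA.1 haw₀,
        by rw [inv_mul_cancel_left]; exact hw₀Z, ?_⟩
      have e2 := h.conj_eq ht.armA.1 hw₀ ht.armA.2.1 hw₀Z haw₀
      rw [inv_eq_of_mul_eq_one_left haa] at e2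
      calc a * w₀ * (a * w₀) = a * w₀ * a * w₀ := by group
        _ = 1 := by rw [e2, mul_assoc, e, h.z_sq]
  let z' : (P : Subgroup X) := ⟨z, h.le h.z_mem⟩
  let x' : (P : Subgroup X) := ⟨a, ht.armA.1⟩
  let y' : (P : Subgroup X) := ⟨w, hw⟩
  have hext : CfsgLib.ExtraTwo.Ext2 (P : Subgroup X) z' :=
    { ne := fun e => h.z_ne (congrArg Subtype.val e)
      center_iff := fun g => by
        constructor
        · intro hg
          rcases hZ2 g ⟨g, hg, rfl⟩ with e | e
          · exact Or.inl (Subtype.ext e)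
          · exact Or.inr (Subtype.ext e)
        · rintro (rfl | rfl)
          · exact one_mem _
          · exact Subgroup.mem_center_iff.mpr fun g => Subtype.ext (h.central g g.2 z h.z_mem)
      sq := fun g => by
        rcases hZ2 _ (h.sq_mem g g.2) with e | e
        · exact Or.inl (Subtype.ext e)
        · exact Or.inr (Subtype.ext e) }
  obtain ⟨δ, hδz, hδx, hδy, -⟩ := CfsgLib.ExtraTwo.exists_dihedral_hom hext (x := x') (y := y')
    (Subtype.ext haa) (Subtype.ext hww)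
    (fun e => h.noncomm ht.armA.1 hw ht.armA.2.1 hwZ haw (congrArg Subtype.val e))
  have hsurj : Function.Surjective δ := fun g => by
    rw [← MonoidHom.mem_range]
    have hz1 : ∀ t : (P : Subgroup X), (t : X) ∈ Z → t ∈ δ.range := fun t ht' => by
      rcases hZ2 _ ht' with e | e
      · rw [show t = 1 from Subtype.ext e]; exact one_mem _
      · exact ⟨_, hδz.trans (Subtype.ext e.symm)⟩
    have hstep : ∀ r : (P : Subgroup X), r ∈ δ.range → ((r⁻¹ * g : (P : Subgroup X)) : X) ∈ Z → g ∈ δ.range :=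
      fun r hr hrg => by
        have := δ.range.mul_mem hr (hz1 _ hrg)
        rwa [mul_inv_cancel_left] at this
    rcases h.four a ht.armA.1 w hw ht.armA.2.1 hwZ haw g g.2 with e | e | e | e
    · exact hz1 g e
    · exact hstep x' ⟨_, hδx⟩ e
    · exact hstep y' ⟨_, hδy⟩ e
    · exact hstep (x' * y') (δ.range.mul_mem ⟨_, hδx⟩ ⟨_, hδy⟩) e
  have hbij : Function.Bijective δ := (Nat.bijective_iff_surjective_and_card δ).mpr ⟨hsurj, by
    rw [DihedralGroup.nat_card, hP8]⟩
  exact ⟨(MulEquiv.ofBijective δ hbij).symm⟩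

end CfsgLib.CentralFour
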